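import Groth.Agent.L22.Reg.PullVan
import Groth.Agent.L17.AffinePush
import Groth.Agent.L17.CohSections
import Groth.Agent.L17.ToAbRpush

/-!
# Vanishing of higher direct images of modules supported on a closed subscheme
-/

set_option autoImplicit false
set_option linter.style.haveILetI false
set_option backward.isDefEq.respectTransparency false
set_option backward.isDefEq.respectTransparency.types false

universe u

open CategoryTheory CategoryTheory.Limits AlgebraicGeometry Opposite TopologicalSpace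

attribute [local instance] HasDerivedCategory.standard

noncomputable section

namespace Groth.L12.KRes

open Groth.L10 Groth.L10.SiteCoh

theorem nonempty_HU_push {Z X : Scheme.{u}} (j : Z ⟶ X) [IsClosedImmersion j] (U : X.Opens) (G : Z.Modules)
    (q : ℕ) : Nonempty (Groth.L17.HU (X := Z.toTopCat) (j ⁻¹ᵁ U) (Coh.toAb G) q ≃+
      Groth.L17.HU (X := X.toTopCat) U (Coh.toAb ((Scheme.Modules.pushforward j).obj G)) q) :=
  nonempty_push_compare (Opens.grothendieckTopology X.toTopCat) (Opens.map j.base) U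
    (fun I m _ => TopCoh.subsingleton_ext_of_flasque _
      (@TopCoh.isFlasque_of_injective _ _ (TopCoh.push_injective j.base I)) U m)
    (Coh.toAb G) (TopCoh.locAcyclic_of_isClosedEmbedding j.base j.isClosedEmbedding _) q

theorem subsingleton_HU_of_Rpush {Z S : Scheme.{u}} (g : Z ⟶ S) [QuasiCompact g] [QuasiSeparated g]
    {V : S.Opens} (hV : IsAffineOpen V) (G : Z.Modules) [Coh.IsQCoh G] (q : ℕ)
    (h : IsZero ((Coh.RpushAb g q).obj (Coh.toAb G))) :
    Subsingleton (Groth.L17.HU (X := Z.toTopCat) (g ⁻¹ᵁ V) (Coh.toAb G) q) := by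
  haveI := Groth.L17.PushQCoh.hasInjectiveResolutions Z
  obtain ⟨e⟩ := Groth.L17.nonempty_toAb_Rpush_iso g G q
  haveI : Subsingleton ((Coh.toAb ((Coh.Rpush g q).obj G)).obj.obj (op V)) :=
    AddCommGrpCat.subsingleton_of_isZero
      (((sheafToPresheaf _ _).map_isZero (h.of_iso e)).obj _)
  exact (Groth.L17.CohSections.equiv g hV G q).toEquiv.subsingleton

variable {n : ℕ} {Y Z : Scheme.{u}} (j : Z ⟶ KRR.PY n Y) [IsClosedImmersion j]

theorem vpush_push_of_HU (G : Z.Modules) (q : ℕ)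
    (h : ∀ W : Y.Opens, IsAffineOpen W →
      Subsingleton (Groth.L17.HU (X := Z.toTopCat) ((j ≫ KRR.pr n Y) ⁻¹ᵁ W) (Coh.toAb G) q)) :
    Groth.L22.Reg.VPush (KRR.pr n Y) q ((Scheme.Modules.pushforward j).obj G) := by
  refine Groth.L22.Reg.vpush_of_affines _ q fun W hW => ?_
  obtain ⟨e⟩ := nonempty_HU_push j (KRR.pr n Y ⁻¹ᵁ W) G q
  exact @Equiv.subsingleton _ _ e.toEquiv.symm (h W hW)

theorem vpush_push (G : Z.Modules) [Coh.IsQCoh G] [QuasiCompact (j ≫ KRR.pr n Y)]
    [QuasiSeparated (j ≫ KRR.pr n Y)] (q : ℕ)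
    (h : IsZero ((Coh.RpushAb (j ≫ KRR.pr n Y) q).obj (Coh.toAb G))) :
    Groth.L22.Reg.VPush (KRR.pr n Y) q ((Scheme.Modules.pushforward j).obj G) := by
  refine Groth.L22.Reg.vpush_of_affines _ q fun W hW => ?_
  obtain ⟨e⟩ := nonempty_HU_push j (KRR.pr n Y ⁻¹ᵁ W) G q
  exact @Equiv.subsingleton _ _ e.toEquiv.symm (subsingleton_HU_of_Rpush (j ≫ KRR.pr n Y) hW G q h)

end Groth.L12.KRes
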