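import Groth.Agent.L29.K.Resolution
import Groth.Agent.L18.LocFreeTilde
import Groth.Agent.L00.StalkFunctor
import Groth.Agent.L15.Ref.FreeLocus
import Groth.Agent.L16.CohKernel
import Groth.Agent.L16.CohSupport
import Groth.Agent.L16.NegPow.Gen
import Groth.Agent.L17.CohClass
import Groth.Agent.L29.DCoh.Amplitude
import Groth.Prelude.Def_KRR
import Mathlib.CategoryTheory.Abelian.Projective.Dimension

/-!
# Coherent modules of bounded projective dimension
-/

set_option autoImplicit false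
set_option linter.style.haveILetI false
set_option backward.isDefEq.respectTransparency false
set_option backward.isDefEq.respectTransparency.types false

universe u

open CategoryTheory CategoryTheory.Limits AlgebraicGeometry
open scoped ZeroObject

noncomputable section

attribute [local instance] preservesBinaryBiproducts_of_preservesBinaryCoproducts

namespace Groth.L12.KRes

open Groth.L29.Resolution

variable {X : Scheme.{u}}

/-- All stalks have projective dimension at most `n`. -/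
def PdLE (n : ℕ) (M : X.Modules) : Prop :=
  ∀ x : X, HasProjectiveDimensionLT ((Groth.L00.Stk.F X x).obj M) (n + 1)

/-- Coherent modules of bounded projective dimension. -/
def CohPd (M : X.Modules) : Prop := Coh.IsCoh M ∧ ∃ n, PdLE n M

theorem shortExact_stalk {S : ShortComplex X.Modules} (hS : S.ShortExact) (x : X) :
    (S.map (Groth.L00.Stk.F X x)).ShortExact := by
  exact hS.map_of_exact _

theorem PdLE.mono {m n : ℕ} (hmn : m ≤ n) {M : X.Modules} (h : PdLE m M) : PdLE n M := fun x =>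
  haveI := h x
  hasProjectiveDimensionLT_of_ge _ (m + 1) (n + 1) (by omega)

theorem PdLE.iso {n : ℕ} {M N : X.Modules} (e : M ≅ N) (h : PdLE n M) : PdLE n N := fun x =>
  haveI := h x
  hasProjectiveDimensionLT_of_iso ((Groth.L00.Stk.F X x).mapIso e) (n + 1)

theorem PdLE.of_isZero {n : ℕ} {M : X.Modules} (h : IsZero M) : PdLE n M := fun x =>
  haveI := ((Groth.L00.Stk.F X x).map_isZero h).hasProjectiveDimensionLT_zero
  hasProjectiveDimensionLT_of_ge _ 0 (n + 1) (by omega)

theorem PdLE.middle {n : ℕ} {S : ShortComplex X.Modules} (hS : S.ShortExact) (h₁ : PdLE n S.X₁)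
    (h₃ : PdLE n S.X₃) : PdLE n S.X₂ := fun x =>
  (shortExact_stalk hS x).hasProjectiveDimensionLT_X₂ (n + 1) (h₁ x) (h₃ x)

theorem PdLE.left {n : ℕ} {S : ShortComplex X.Modules} (hS : S.ShortExact) (h₂ : PdLE n S.X₂)
    (h₃ : PdLE (n + 1) S.X₃) : PdLE n S.X₁ := fun x =>
  (shortExact_stalk hS x).hasProjectiveDimensionLT_X₁ (n + 1) (h₂ x) (h₃ x)

theorem PdLE.right {n : ℕ} {S : ShortComplex X.Modules} (hS : S.ShortExact) (h₁ : PdLE n S.X₁)
    (h₂ : PdLE (n + 1) S.X₂) : PdLE (n + 1) S.X₃ := fun x =>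
  (shortExact_stalk hS x).hasProjectiveDimensionLT_X₃ (n + 1) (h₁ x) (h₂ x)

section Noeth

variable [IsNoetherian X]

theorem vb_iff {M : X.Modules} : FlatMod.IsFinLocFree M ↔ Coh.IsCoh M ∧ PdLE 0 M := by
  constructor
  · intro h
    refine ⟨Groth.L16.NegPow.isCoh_of_isFinLocFree h, fun x => ?_⟩
    haveI : Module.Free (X.presheaf.stalk x) ((Groth.L00.Stk.F X x).obj M) := Groth.L18.LFP.free_stalk M h x
    haveI : Projective ((Groth.L00.Stk.F X x).obj M) :=
      ((Groth.L00.Stk.F X x).obj M).projective_of_categoryTheory_projective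
    infer_instance
  · rintro ⟨hc, hp⟩
    have hfp := Groth.L15.Ref.isFP_of_isCoh hc
    refine (Groth.L18.LFP.isFP_and_free_iff M).1 ⟨hfp, fun x => ?_⟩
    haveI := hp x
    haveI : Module.Finite (X.presheaf.stalk x) (M.presheaf.stalk x) := Groth.L18.LFP.finite_stalk M hfp x
    haveI : Projective ((Groth.L00.Stk.F X x).obj M) := projective_iff_hasProjectiveDimensionLT_one.2 (hp x)
    haveI : Module.Projective (X.presheaf.stalk x) ((Groth.L00.Stk.F X x).obj M) :=
      (IsProjective.iff_projective _).2 inferInstance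
    haveI : Module.Flat (X.presheaf.stalk x) ((Groth.L00.Stk.F X x).obj M) := inferInstance
    haveI : Module.Flat (X.presheaf.stalk x) (M.presheaf.stalk x) :=
      ‹Module.Flat (X.presheaf.stalk x) ((Groth.L00.Stk.F X x).obj M)›
    exact Module.free_of_flat_of_isLocalRing

theorem isCoh_left {S : ShortComplex X.Modules} (hS : S.ShortExact) (h₂ : Coh.IsCoh S.X₂)
    (h₃ : Coh.IsCoh S.X₃) : Coh.IsCoh S.X₁ :=
  Groth.L16.CohSupport.isCoh_of_iso ((kernelIsKernel S.g).conePointUniqueUpToIso hS.fIsKernel)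
    (Groth.L16.CohKernel.isCoh_kernel_cokernel h₂ h₃ S.g).1

theorem isCoh_pullback {A B D : X.Modules} (u : A ⟶ B) (v : D ⟶ B) (hA : Coh.IsCoh A) (hB : Coh.IsCoh B)
    (hD : Coh.IsCoh D) : Coh.IsCoh (pullback u v) := by
  have hAD : Coh.IsCoh (A ⊞ D) :=
    Groth.L17.CohClass.isCoh_of_shortExact _ (ShortComplex.Splitting.ofHasBinaryBiproduct A D).shortExact hA hD
  have hK := (Groth.L16.CohKernel.isCoh_kernel_cokernel hAD hB (biprod.desc u (-v))).1
  let c : PullbackCone u v := PullbackCone.mk (kernel.ι (biprod.desc u (-v)) ≫ biprod.fst)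
    (kernel.ι (biprod.desc u (-v)) ≫ biprod.snd) (by
      have h := kernel.condition (biprod.desc u (-v))
      rw [← sub_eq_zero]
      simpa [biprod.desc_eq, sub_eq_add_neg, Preadditive.comp_add] using h)
  refine Groth.L16.CohSupport.isCoh_of_iso ?_ hK
  exact IsLimit.conePointUniqueUpToIso (PullbackCone.IsLimit.mk c.condition
    (fun s => kernel.lift _ (biprod.lift s.fst s.snd) (by rw [biprod.lift_desc, Preadditive.comp_neg, s.condition, add_neg_cancel]))
    (fun s => by simp [c]) (fun s => by simp [c])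
    (fun s m h₁ h₂ => by
      apply equalizer.hom_ext
      apply biprod.hom_ext <;> simp [c] at h₁ h₂ ⊢ <;> assumption)) (limit.isLimit _)

instance closed_vb : ObjectProperty.IsClosedUnderIsomorphisms (KRR.vbP X) :=
  ⟨fun e h => Groth.L29.LocFree.of_iso e h⟩

theorem CohPd.iso {M N : X.Modules} (e : M ≅ N) (h : CohPd M) : CohPd N :=
  ⟨Groth.L16.CohSupport.isCoh_of_iso e h.1, h.2.imp fun _ hn => hn.iso e⟩

instance closed_cohPd : ObjectProperty.IsClosedUnderIsomorphisms (fun M : X.Modules => CohPd M) :=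
  ⟨fun e h => h.iso e⟩

variable (hX : KRR.HasEnoughLocFree X)

include hX in
theorem hyp : Hyp (KRR.vbP X) (fun M : X.Modules => CohPd M) where
  le M h := ⟨(vb_iff.1 h).1, 0, (vb_iff.1 h).2⟩
  ext₀ S hS h₁ h₃ := vb_iff.2 ⟨Groth.L17.CohClass.isCoh_of_shortExact S hS (vb_iff.1 h₁).1 (vb_iff.1 h₃).1,
    (vb_iff.1 h₁).2.middle hS (vb_iff.1 h₃).2⟩
  ext₁ S hS h₁ h₃ := by
    obtain ⟨h₁, a, ha⟩ := h₁
    obtain ⟨h₃, b, hb⟩ := h₃
    exact ⟨Groth.L17.CohClass.isCoh_of_shortExact S hS h₁ h₃, max a b,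
      (ha.mono (le_max_left _ _)).middle hS (hb.mono (le_max_right _ _))⟩
  ker₀ S hS h₂ h₃ := vb_iff.2 ⟨isCoh_left hS (vb_iff.1 h₂).1 (vb_iff.1 h₃).1,
    (vb_iff.1 h₂).2.left hS ((vb_iff.1 h₃).2.mono (Nat.zero_le 1))⟩
  ker₁ S hS h₂ h₃ := by
    obtain ⟨h₂, a, ha⟩ := h₂
    obtain ⟨h₃, b, hb⟩ := h₃
    exact ⟨isCoh_left hS h₂ h₃, max a b,
      (ha.mono (le_max_left _ _)).left hS (hb.mono ((le_max_right _ _).trans (Nat.le_succ _)))⟩
  cover A B D u v hu hA hB hD := by
    obtain ⟨E, p, hE, hp⟩ := hX _ (isCoh_pullback u v hA.1 hB.1 hD.1)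
    exact ⟨E, p ≫ pullback.snd u v, p ≫ pullback.fst u v, hE, epi_comp _ _,
      by rw [Category.assoc, Category.assoc, pullback.condition]⟩

include hX in
theorem D_of_pdLE : ∀ (n : ℕ) {A : X.Modules}, Coh.IsCoh A → PdLE n A →
    D (KRR.vbP X) (fun M : X.Modules => CohPd M) n A
  | 0, A, hc, hp => vb_iff.2 ⟨hc, hp⟩
  | n + 1, A, hc, hp => ⟨⟨hc, n + 1, hp⟩, fun K L i f w hS hL =>
      D_of_pdLE n (isCoh_left hS (vb_iff.1 hL).1 hc) (((vb_iff.1 hL).2.mono (Nat.zero_le n)).left hS hp)⟩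

include hX in
theorem hfin (A : X.Modules) (hA : CohPd A) : ∃ n, D (KRR.vbP X) (fun M : X.Modules => CohPd M) n A := by
  obtain ⟨hc, n, hn⟩ := hA
  exact ⟨n, D_of_pdLE hX n hc hn⟩

end Noeth

end Groth.L12.KRes
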