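import Groth.Agent.L12.KRes.PushReg
import Groth.Agent.L12.PushFree.RegBC
import Groth.Agent.L12.PushFree.Twists
import Groth.Agent.L17.BC.Efface
import Groth.Agent.L18.AmpleOps
import Groth.Agent.L03.Euler.Twist
import Groth.Agent.L18.CoprodModules
import Groth.Agent.L16.AffineBC.Pullback

/-!
# Push-forwards on `K₀` along morphisms factored through projective spaces
-/

set_option autoImplicit false
set_option linter.style.haveILetI false
set_option linter.unusedSectionVars false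
set_option backward.isDefEq.respectTransparency false
set_option backward.isDefEq.respectTransparency.types false

universe v u

open CategoryTheory CategoryTheory.Limits AlgebraicGeometry TopologicalSpace

attribute [local instance] HasDerivedCategory.standard

noncomputable section

namespace Groth.L12.KRes

open Groth.L22.Reg Groth.L12.KReg
open Groth.L00.Tensor (tensorIso tensorComm tensorAssoc tensorUnitRight)

/-- Uniform relative Serre vanishing. -/
theorem exists_vanishing {X Y : Scheme.{u}} (f : X ⟶ Y) [IsProper f] [IsNoetherian Y] {L : X.Modules}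
    (hamp : RelAmple.IsRelAmple f L) (hL : PicF.IsInvertible L) {G : X.Modules} (hG : Coh.IsCoh G) :
    ∃ N : ℕ, ∀ k, N ≤ k → ∀ q : ℕ, 1 ≤ q →
      IsZero ((Coh.RpushAb f q).obj (Coh.toAb (CohB1.tensorMod G (CohB1.tensorPow L k)))) := by
  haveI := Groth.L17.PushQCoh.hasInjectiveResolutions X
  choose W hW hxW using fun y : Y => show ∃ W : Y.Opens, IsAffineOpen W ∧ y ∈ W by
    obtain ⟨_, ⟨W, hW, rfl⟩, hxW, -⟩ := Y.isBasis_affineOpens.exists_subset_of_mem_open (Set.mem_univ y) isOpen_univ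
    exact ⟨W, hW, hxW⟩
  obtain ⟨t, ht⟩ := isCompact_univ.elim_finite_subcover (fun y : Y => (W y : Set Y)) (fun y => (W y).2)
    (fun y _ => Set.mem_iUnion.2 ⟨y, hxW y⟩)
  choose m hm using fun i : t =>
    Groth.L17.BC.FlatCrit.exists_isZero_Rpush_chart f (hW i.1) hG hamp hL
  obtain ⟨N, hN⟩ := (Set.finite_range m).bddAbove
  refine ⟨N, fun k hk q hq => ?_⟩
  have hz : IsZero ((Coh.Rpush f q).obj (CohB1.tensorMod G (CohB1.tensorPow L k))) :=
    Groth.L21.Mod.isZero_of_restrict (fun i : t => (hW i.1).fromSpec) (fun z => by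
      obtain ⟨z', hz', hzz⟩ := Set.mem_iUnion₂.1 (ht (Set.mem_univ z))
      exact ⟨⟨z', hz'⟩, (hW z').opensRange_fromSpec.ge hzz⟩) _ fun i => hm i k ((hN ⟨i, rfl⟩).trans hk) q hq
  obtain ⟨e⟩ := Groth.L17.nonempty_toAb_Rpush_iso f (CohB1.tensorMod G (CohB1.tensorPow L k)) q
  exact ((Groth.L17.toAbShF Y).map_isZero hz).of_iso e.symm

variable {n : ℕ} {Y : Scheme.{u}}

theorem vt_of_lt_coh [IsNoetherian Y] {M : (KRR.PY n Y).Modules} (hM : Coh.IsCoh M) {q : ℕ} (hq : n < q) (d : ℤ) :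
    VT q d M := by
  haveI := isNoetherian_PY n Y
  refine vpush_of_affines _ q fun W hW => ?_
  have hG : Coh.IsCoh (CohB1.tensorMod M (Twist.twistOver n Y d)) :=
    Groth.L03.Euler.isCoh_tensor (Groth.L17.Strat.isInvertible_twistOver n Y d) hM
  obtain ⟨e⟩ := nonempty_HU_affine (CohB1.tensorMod M (Twist.twistOver n Y d)) hW q
  haveI : Coh.IsQCoh (CohB1.tensorMod M (Twist.twistOver n Y d)) := hG.1
  haveI : Coh.IsQCoh ((Scheme.Modules.pullback (Groth.L20.PnPic.toPt n hW.fromSpec)).obj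
      (CohB1.tensorMod M (Twist.twistOver n Y d))) := Groth.L16.AffineBC.isQCoh_pullback _ _
  haveI := Groth.L16.ProjSpace.subsingleton_HH_of_lt n Γ(Y, W)
    ((Scheme.Modules.pullback (Groth.L20.PnPic.toPt n hW.fromSpec)).obj
      (CohB1.tensorMod M (Twist.twistOver n Y d))) q hq
  exact e.toEquiv.subsingleton

/-- Regularity of a direct image only needs the first `n` degrees. -/
theorem isRegSheaf_push_of_le [IsNoetherian Y] {Z : Scheme.{u}} (j : Z ⟶ KRR.PY n Y) [IsClosedImmersion j]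
    (G : Z.Modules) (hM : Coh.IsCoh ((Scheme.Modules.pushforward j).obj G))
    (h : ∀ s : ℕ, 1 ≤ s → s ≤ n → ∀ W : Y.Opens, IsAffineOpen W →
      Subsingleton (Groth.L17.HU (X := Z.toTopCat) ((j ≫ KRR.pr n Y) ⁻¹ᵁ W)
        (Coh.toAb (CohB1.tensorMod ((Scheme.Modules.pullback j).obj (Twist.twistOver n Y (-(s : ℤ)))) G)) s)) :
    KRR.IsRegSheaf n Y ((Scheme.Modules.pushforward j).obj G) :=
  isRegSheaf_iff.2 fun s hs => by
    rcases Nat.lt_or_ge n s with hns | hns
    · exact vt_of_lt_coh hM hns _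
    · exact (isVan_vpush _).iso
        (tensorComm _ _ ≪≫ (Groth.L17.ClosedPush.thetaIso j G).app (Twist.twistOver n Y (-(s : ℤ)))).symm s
        (vpush_push_of_HU j _ s (h s hs hns))

theorem subsingleton_HU_iso {Z : Scheme.{u}} {A B : Z.Modules} (e : A ≅ B) (U : Z.Opens) (q : ℕ)
    (h : Subsingleton (Groth.L17.HU (X := Z.toTopCat) U (Coh.toAb A) q)) :
    Subsingleton (Groth.L17.HU (X := Z.toTopCat) U (Coh.toAb B) q) := by
  let E := ((Abelian.extFunctorObj (Groth.L17.zFree (X := Z.toTopCat) U) q).mapIso ((Groth.L17.toAbShF Z).mapIso e)).addCommGroupIsoToAddEquiv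
  exact @Equiv.subsingleton _ _ E.toEquiv.symm h

/-- The pulled back hyperplane bundle. -/
abbrev O1 {X : Scheme.{u}} (i : X ⟶ KRR.PY n Y) : X.Modules :=
  (Scheme.Modules.pullback i).obj (Twist.twistOver n Y 1)

theorem nonempty_O1_pow {X : Scheme.{u}} (i : X ⟶ KRR.PY n Y) (k : ℕ) :
    Nonempty (CohB1.tensorPow (O1 i) k ≅ (Scheme.Modules.pullback i).obj (Twist.twistOver n Y (k : ℤ))) := by
  induction k with
  | zero =>
    obtain ⟨z⟩ := nonempty_OT_zero n Y
    exact ⟨(Groth.L29.LocFree.pullbackUnitIso i).symm ≪≫ (Scheme.Modules.pullback i).mapIso z.symm⟩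
  | succ k ih =>
    obtain ⟨e⟩ := ih
    obtain ⟨a⟩ := nonempty_OT_add n Y (show (k : ℤ) + 1 = ((k + 1 : ℕ) : ℤ) by omega)
    exact ⟨tensorIso e (Iso.refl _) ≪≫ Groth.L29.DC.PullTensor.pullTensor i _ _ ≪≫ (Scheme.Modules.pullback i).mapIso a⟩

theorem isRelAmple_O1 {X : Scheme.{u}} (i : X ⟶ KRR.PY n Y) [IsClosedImmersion i] :
    RelAmple.IsRelAmple (i ≫ KRR.pr n Y) (O1 i) := by
  haveI : IsProper (KRR.pr n Y) := Groth.L16.ProjSpace.isProper_toBase n Y
  exact Groth.L18.Ample.isRelAmple_pullback_of_isInducing (KRR.pr n Y) i i.isClosedEmbedding.isInducing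
    (Groth.L18.VeryAmpleOver.isRelAmple_twistOver n Y)

theorem isInvertible_O1 {X : Scheme.{u}} (i : X ⟶ KRR.PY n Y) : PicF.IsInvertible (O1 i) :=
  Groth.L18.Ample.isInvertible_pullback _ (Groth.L17.Strat.isInvertible_twistOver n Y 1)

/-- Homomorphisms out of `K(X)` agree when they agree on large twists of every bundle. -/
theorem hom_ext_twists [IsNoetherian Y] {X : Scheme.{u}} (i : X ⟶ KRR.PY n Y) {A : Type v} [AddCommGroup A]
    {φ ψ : SGA6.Kvb X →+ A}
    (h : ∀ F : X.Modules, FlatMod.IsFinLocFree F → ∃ N : ℕ, ∀ k, N ≤ k →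
      φ (KRR.cl X (CohB1.tensorMod F (CohB1.tensorPow (O1 i) k))) =
        ψ (KRR.cl X (CohB1.tensorMod F (CohB1.tensorPow (O1 i) k)))) : φ = ψ := by
  haveI := isNoetherian_PY n Y
  refine Groth.L29.KSub.hom_ext fun F hF => ?_
  change φ (KRR.cl X F) = ψ (KRR.cl X F)
  rw [← sub_eq_zero]
  have hadd : ∀ S : ShortComplex (KRR.PY n Y).Modules, S.ShortExact → KRR.vbP _ S.X₁ → KRR.vbP _ S.X₂ →
      KRR.vbP _ S.X₃ →
      (φ - ψ) (KRR.cl X (CohB1.tensorMod F ((Scheme.Modules.pullback i).obj S.X₂))) =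
        (φ - ψ) (KRR.cl X (CohB1.tensorMod F ((Scheme.Modules.pullback i).obj S.X₁))) +
          (φ - ψ) (KRR.cl X (CohB1.tensorMod F ((Scheme.Modules.pullback i).obj S.X₃))) := by
    intro S hS h1 h2 h3
    have hsplit : Groth.L17.BC.Efface.StalkSplit S.f := fun x => by
      have hSx := hS.map_of_exact (Groth.L00.Stk.F _ x)
      haveI : Module.Free ((KRR.PY n Y).presheaf.stalk x) ((S.map (Groth.L00.Stk.F _ x)).X₃) :=
        Groth.L18.LFP.free_stalk S.X₃ h3 x
      haveI : Projective ((S.map (Groth.L00.Stk.F _ x)).X₃) :=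
        ((S.map (Groth.L00.Stk.F _ x)).X₃).projective_of_categoryTheory_projective
      exact hSx.splittingOfProjective.isSplitMono_f
    have hp := Groth.L17.BC.Efface.shortExact_pullback hS hsplit i
    rw [← map_add]
    exact congrArg _ (Groth.L29.KSub.clSub_shortExact (KRR.vbP X)
      (Groth.L16.FrameIso.shortExact_tensor_left (Groth.L29.DC.isFlat_of_isFinLocFree hF) _ hp)
      (Groth.L29.DC.isFinLocFree_tensor hF (Groth.L29.LocFree.pullback i h1))
      (Groth.L29.DC.isFinLocFree_tensor hF (Groth.L29.LocFree.pullback i h2))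
      (Groth.L29.DC.isFinLocFree_tensor hF (Groth.L29.LocFree.pullback i h3)))
  let Θ : SGA6.Kvb (KRR.PY n Y) →+ A := Groth.L29.KSub.lift (P := KRR.vbP (KRR.PY n Y))
    (fun E => (φ - ψ) (KRR.cl X (CohB1.tensorMod F ((Scheme.Modules.pullback i).obj E)))) hadd
  have hΘ : ∀ E, FlatMod.IsFinLocFree E → Θ (KRR.cl (KRR.PY n Y) E) =
      (φ - ψ) (KRR.cl X (CohB1.tensorMod F ((Scheme.Modules.pullback i).obj E))) := fun E hE =>
    Groth.L29.KSub.lift_clSub _ hadd hE
  obtain ⟨N, hN⟩ := h F hF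
  have key : ∀ m k : ℕ, N ≤ k + m → Θ (KRR.cl (KRR.PY n Y) (Twist.twistOver n Y (k : ℤ))) = 0 := by
    intro m
    induction m with
    | zero =>
      intro k hk
      obtain ⟨e⟩ := nonempty_O1_pow i k
      rw [hΘ _ (isFinLocFree_O _), ← Groth.L12.PushFree.cl_iso (tensorIso (Iso.refl F) e)
        (Groth.L29.DC.isFinLocFree_tensor hF (Groth.L16.Existence.isFinLocFree_of_isInvertible
          (Groth.L18.Ample.isInvertible_tensorPow (isInvertible_O1 i) k))),
        AddMonoidHom.sub_apply, sub_eq_zero]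
      exact hN k (by omega)
    | succ m ih =>
      intro k hk
      let F' := Twist.twistOver n Y (k : ℤ)
      have hF' : FlatMod.IsFinLocFree F' := isFinLocFree_O _
      have htw : ∀ j : ℕ, 1 ≤ j → Θ (KRR.cl _ (KRR.twF n Y (j : ℤ) F')) = 0 := fun j hj => by
        obtain ⟨e⟩ := nonempty_twF_iso n Y (j : ℤ) F'
        obtain ⟨a⟩ := nonempty_OT_add n Y (show (j : ℤ) + (k : ℤ) = ((k + j : ℕ) : ℤ) by omega)
        rw [Groth.L12.PushFree.cl_iso (e ≪≫ a) (isFinLocFree_tw _ hF')]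
        exact ih (k + j) (by omega)
      have := congrArg Θ (cl_eq_T isSumClosed_vb hF' (fun j => isFinLocFree_tw _ hF') (vb_kosG hF') (vb_Z hF'))
      rw [map_T, T_congr (h' := fun _ => (0 : A)) F' htw] at this
      exact this.trans (by simp [T])
  have h0 := key N 0 (by omega)
  obtain ⟨z⟩ := nonempty_OT_zero n Y
  rw [Nat.cast_zero, hΘ _ (isFinLocFree_O _), Groth.L12.PushFree.cl_iso (tensorIso (Iso.refl F)
    ((Scheme.Modules.pullback i).mapIso z ≪≫ Groth.L29.LocFree.pullbackUnitIso i) ≪≫ tensorUnitRight F)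
    (Groth.L29.DC.isFinLocFree_tensor hF (Groth.L29.LocFree.pullback i (isFinLocFree_O _)))] at h0
  exact h0

/-- The push-forward through a factorization, on a bundle with regular direct image. -/
theorem push_apply_factor [IsNoetherian Y] [IsNoetherian (KRR.PY n Y)] {X : Scheme.{u}} [IsNoetherian X]
    (i : X ⟶ KRR.PY n Y) (hi : Mor2.IsRegularClosedImmersion i) (hPe : KRR.HasEnoughLocFree (KRR.PY n Y))
    (hYe : KRR.HasEnoughLocFree Y) {h : X ⟶ Y} (hh : i ≫ KRR.pr n Y = h)
    {KX : Type v} [CommRing KX] {KP : Type v} [CommRing KP] {KY : Type v} [CommRing KY]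
    (φX : SGA6.Kvb X →+ KX) (φP : SGA6.Kvb (KRR.PY n Y) →+ KP) (φY : SGA6.Kvb Y →+ KY)
    {a : KX →+ KP} (ha : KRR.IsPushCl i φX φP a) {b : KP →+ KY} (hb : KRR.IsPushPr n Y φP φY b)
    {G : X.Modules} (hG : FlatMod.IsFinLocFree G)
    (hreg : KRR.IsRegSheaf n Y ((Scheme.Modules.pushforward i).obj G)) :
    CohPd ((Scheme.Modules.pushforward h).obj G) ∧
      b (a (φX (KRR.cl X G))) = φY (clPd hYe ((Scheme.Modules.pushforward h).obj G)) := by
  have hpd := cohPd_push i hi hPe hG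
  obtain ⟨-, hpush, he⟩ := nice_of_good hPe hYe ⟨hpd, hreg⟩
  have hb' : ∀ z, b (φP z) = φY (pushK n Y z) := fun z => DFunLike.congr_fun
    (hom_ext_regular n Y (φ := b.comp φP) (ψ := φY.comp (pushK n Y))
      fun F hF hr => (hb F hF hr).trans (congrArg φY (pushK_cl n Y hF hr).symm)) z
  let e := (Scheme.Modules.pushforwardComp i (KRR.pr n Y)).app G ≪≫ (Scheme.Modules.pushforwardCongr hh).app G
  refine ⟨hpush.iso e, ?_⟩
  rw [map_pushCl i hi hPe φX φP ha, hb', pushCl_cl i hi hPe hG, he]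
  exact congrArg φY (clPd_iso hYe e hpush)

/-- Large twists by `O1 i₀` have regular direct image under `j`, provided these twists are ample. -/
theorem exists_regular_push [IsNoetherian Y] {X : Scheme.{u}} (j : X ⟶ KRR.PY n Y) [IsClosedImmersion j]
    {h : X ⟶ Y} (hh : j ≫ KRR.pr n Y = h) [IsProper h] {L : X.Modules} (hamp : RelAmple.IsRelAmple h L)
    (hL : PicF.IsInvertible L) {F : X.Modules} (hF : FlatMod.IsFinLocFree F) :
    ∃ N : ℕ, ∀ k, N ≤ k →
      KRR.IsRegSheaf n Y ((Scheme.Modules.pushforward j).obj (CohB1.tensorMod F (CohB1.tensorPow L k))) := by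
  subst hh
  haveI := isNoetherian_PY n Y
  haveI : IsLocallyNoetherian X := LocallyOfFiniteType.isLocallyNoetherian j
  haveI : CompactSpace X := QuasiCompact.compactSpace_of_compactSpace j
  haveI : IsNoetherian X := { }
  have hG : ∀ s : ℕ, FlatMod.IsFinLocFree
      (CohB1.tensorMod ((Scheme.Modules.pullback j).obj (Twist.twistOver n Y (-(s : ℤ)))) F) := fun s =>
    Groth.L29.DC.isFinLocFree_tensor (Groth.L29.LocFree.pullback j (isFinLocFree_O _)) hF
  choose N hN using fun s : ℕ => exists_vanishing (j ≫ KRR.pr n Y) hamp hL (vb_iff.1 (hG s)).1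
  refine ⟨(Finset.range (n + 1)).sup N, fun k hk => ?_⟩
  have hvb : FlatMod.IsFinLocFree (CohB1.tensorMod F (CohB1.tensorPow L k)) :=
    Groth.L29.DC.isFinLocFree_tensor hF (Groth.L16.Existence.isFinLocFree_of_isInvertible
      (Groth.L18.Ample.isInvertible_tensorPow hL k))
  refine isRegSheaf_push_of_le j _ (Groth.L16.CohClosedPush.isCoh_push j (vb_iff.1 hvb).1) fun s hs hsn W hW => ?_
  have hle := (Finset.le_sup (f := N) (Finset.mem_range.2 (Nat.lt_succ_of_le hsn))).trans hk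
  haveI : Coh.IsQCoh (CohB1.tensorMod (CohB1.tensorMod
      ((Scheme.Modules.pullback j).obj (Twist.twistOver n Y (-(s : ℤ)))) F) (CohB1.tensorPow L k)) :=
    (vb_iff.1 (Groth.L29.DC.isFinLocFree_tensor (hG s) (Groth.L16.Existence.isFinLocFree_of_isInvertible
      (Groth.L18.Ample.isInvertible_tensorPow hL k)))).1.1
  exact subsingleton_HU_iso (tensorAssoc _ _ _) _ _
    (subsingleton_HU_of_Rpush (j ≫ KRR.pr n Y) hW _ s (hN s k hle s hs))

end Groth.L12.KRes
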