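import Groth.Agent.L12.KRes.KPushCl

/-!
# Push-forward of coherent modules of bounded projective dimension
-/

set_option autoImplicit false
set_option linter.style.haveILetI false
set_option backward.isDefEq.respectTransparency false
set_option backward.isDefEq.respectTransparency.types false

universe v u

open CategoryTheory CategoryTheory.Limits AlgebraicGeometry

noncomputable section

namespace Groth.L12.KRes

variable {X Y : Scheme.{u}} (f : X ⟶ Y) [IsNoetherian X] [IsNoetherian Y]
  (hf : Mor2.IsRegularClosedImmersion f) (hXe : KRR.HasEnoughLocFree X) (hYe : KRR.HasEnoughLocFree Y)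

theorem CohPd.right {S : ShortComplex Y.Modules} (hS : S.ShortExact) (h₁ : CohPd S.X₁) (h₂ : CohPd S.X₂)
    (h₃ : Coh.IsCoh S.X₃) : CohPd S.X₃ := by
  obtain ⟨-, a, ha⟩ := h₁
  obtain ⟨-, b, hb⟩ := h₂
  exact ⟨h₃, max a b + 1,
    (ha.mono (le_max_left a b)).right hS (hb.mono ((le_max_right a b).trans (Nat.le_succ _)))⟩

include hf hXe hYe in
theorem cohPd_push' : ∀ (n : ℕ) {M : X.Modules}, Coh.IsCoh M → PdLE n M →
    CohPd ((Scheme.Modules.pushforward f).obj M)
  | 0, M, hc, hp => cohPd_push f hf hYe (vb_iff.2 ⟨hc, hp⟩)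
  | n + 1, M, hc, hp => by
    haveI := hf.1
    haveI := Groth.L17.PushQCoh.additive_push f
    obtain ⟨L, p, hL, hep⟩ := hXe M hc
    haveI := hep
    have hS : (ShortComplex.mk (kernel.ι p) p (kernel.condition p)).ShortExact :=
      ShortComplex.ShortExact.mk' (ShortComplex.exact_of_f_is_kernel _ (kernelIsKernel p)) inferInstance inferInstance
    exact CohPd.right (shortExact_push_closed f hS)
      (cohPd_push' n (isCoh_left hS (vb_iff.1 hL).1 hc) (((vb_iff.1 hL).2.mono (Nat.zero_le n)).left hS hp))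
      (cohPd_push f hf hYe hL) (Groth.L16.CohClosedPush.isCoh_push f hc)

include hf hXe hYe in
theorem cohPd_push_cohPd {M : X.Modules} (hM : CohPd M) : CohPd ((Scheme.Modules.pushforward f).obj M) :=
  cohPd_push' f hf hXe hYe _ hM.1 hM.2.choose_spec

include hf hXe hYe in
theorem pushCl_clPd {M : X.Modules} (hM : CohPd M) :
    pushCl f hf hYe (clPd hXe M) = clPd hYe ((Scheme.Modules.pushforward f).obj M) := by
  haveI := hf.1
  haveI := Groth.L17.PushQCoh.additive_push f
  let A : KZero.K0sub (fun M : X.Modules => CohPd M) →+ SGA6.Kvb Y :=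
    Groth.L29.KSub.lift (fun M => clPd hYe ((Scheme.Modules.pushforward f).obj M)) fun S hS h₁ h₂ h₃ =>
      clPd_shortExact hYe (shortExact_push_closed f hS) (cohPd_push_cohPd f hf hXe hYe h₁)
        (cohPd_push_cohPd f hf hXe hYe h₂) (cohPd_push_cohPd f hf hXe hYe h₃)
  have hA : A.comp (toPd hXe) = pushCl f hf hYe := Groth.L29.KSub.hom_ext fun F hF => by
    show A (toPd hXe (KRR.cl X F)) = pushCl f hf hYe (KRR.cl X F)
    rw [toPd_cl hXe hF, pushCl_cl f hf hYe hF]
    exact Groth.L29.KSub.lift_clSub _ _ ((hyp hXe).le F hF)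
  rw [← hA, AddMonoidHom.comp_apply, toPd_clPd]
  exact Groth.L29.KSub.lift_clSub _ _ hM

/-- The value of any push-forward on a bundle. -/
theorem push_apply {KX : Type v} [CommRing KX] {KY : Type v} [CommRing KY] (φX : SGA6.Kvb X →+ KX)
    (φY : SGA6.Kvb Y →+ KY) {g : KX →+ KY} (hg : KRR.IsPushCl f φX φY g) {F : X.Modules}
    (hF : FlatMod.IsFinLocFree F) (hpd : CohPd ((Scheme.Modules.pushforward f).obj F)) :
    g (φX (KRR.cl X F)) = φY (clPd hYe ((Scheme.Modules.pushforward f).obj F)) := by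
  obtain ⟨n, L, π, hL⟩ := hasLFRes_of_cohPd hYe hpd
  rw [hg F hF n L π hL, clPd_isLFRes hYe hL, map_sum]
  exact Finset.sum_congr rfl fun k _ => (map_zsmul φY _ _).symm

end Groth.L12.KRes
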