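import Groth.Agent.L12.KRes.Tensor
import Groth.Agent.L12.KRes.PushPd
import Groth.Agent.L12.PushFree.KPush

/-!
# The push-forward along `ℙⁿ_Y → Y` on coherent modules of bounded projective dimension
-/

set_option autoImplicit false
set_option linter.style.haveILetI false
set_option linter.unusedSectionVars false
set_option backward.isDefEq.respectTransparency false
set_option backward.isDefEq.respectTransparency.types false

universe u

open CategoryTheory CategoryTheory.Limits AlgebraicGeometry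
open scoped ZeroObject

attribute [local instance] HasDerivedCategory.standard
attribute [local instance] preservesBinaryBiproducts_of_preservesBinaryCoproducts

noncomputable section

namespace Groth.L12.KRes

open Groth.L22.Reg Groth.L12.KReg Groth.L12.KosClass
open Groth.L00.Tensor (tensorIso)

theorem copies_small {X : Scheme.{u}} {A M : X.Modules} {N : ℕ} (h : Copies A N M) :
    (N = 0 → IsZero M) ∧ (N = 1 → Nonempty (M ≅ A)) := by
  induction h with
  | zero h => exact ⟨fun _ => h, fun h' => absurd h' (by omega)⟩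
  | one e => exact ⟨fun h' => absurd h' (by omega), fun _ => ⟨e⟩⟩
  | @add a b M M' N _ _ e ih ih' =>
    refine ⟨fun h => ?_, fun h => ?_⟩
    · exact ((biprod_isZero_iff M M').2 ⟨ih.1 (by omega), ih'.1 (by omega)⟩).of_iso e
    · rcases Nat.eq_zero_or_pos a with ha | ha
      · obtain ⟨i⟩ := ih'.2 (by omega)
        exact ⟨e ≪≫ (isoZeroBiprod (ih.1 ha)).symm ≪≫ i⟩
      · obtain ⟨i⟩ := ih.2 (by omega)
        exact ⟨e ≪≫ (isoBiprodZero (ih'.1 (by omega))).symm ≪≫ i⟩

variable {n : ℕ} {Y : Scheme.{u}} [IsNoetherian Y] [IsNoetherian (KRR.PY n Y)]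

/-- The direct image along the projection. -/
abbrev pf (M : (KRR.PY n Y).Modules) : Y.Modules := (Scheme.Modules.pushforward (KRR.pr n Y)).obj M

/-- Regular, of bounded projective dimension. -/
def Good (M : (KRR.PY n Y).Modules) : Prop := CohPd M ∧ KRR.IsRegSheaf n Y M

variable (hPe : KRR.HasEnoughLocFree (KRR.PY n Y)) (hYe : KRR.HasEnoughLocFree Y)

/-- The push-forward of `M` on `K₀` is computed by the direct image. -/
def Nice (M : (KRR.PY n Y).Modules) : Prop :=
  Good M ∧ CohPd (pf M) ∧ pushK n Y (clPd hPe M) = clPd hYe (pf M)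

theorem Nice.of_regP {F : (KRR.PY n Y).Modules} (hF : RegP n Y F) : Nice hPe hYe F := by
  have h := Groth.L12.PushFree.isFinLocFree_push_regular n Y hF.1 hF.2
  exact ⟨⟨(hyp hPe).le F hF.1, hF.2⟩, (hyp hYe).le _ h,
    by rw [clPd_vb hPe hF.1, pushK_cl n Y hF.1 hF.2, clPd_vb hYe h]⟩

theorem shortExact_push_reg {S : ShortComplex (KRR.PY n Y).Modules}
    [(Scheme.Modules.pushforward (KRR.pr n Y)).Additive] (hS : S.ShortExact)
    (h : KRR.IsRegSheaf n Y S.X₁) : (S.map (Scheme.Modules.pushforward (KRR.pr n Y))).ShortExact :=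
  shortExact_push (KRR.pr n Y) hS (vpush_of_regular h 1 le_rfl)

theorem Nice.left {S : ShortComplex (KRR.PY n Y).Modules} (hS : S.ShortExact) (h₁ : Good S.X₁)
    (h₂ : Nice hPe hYe S.X₂) (h₃ : Nice hPe hYe S.X₃) : Nice hPe hYe S.X₁ := by
  haveI := Groth.L17.PushQCoh.additive_push (KRR.pr n Y)
  have hp := shortExact_push_reg hS h₁.2
  have h := (hyp hYe).ker₁ _ hp h₂.2.1 h₃.2.1
  have e := clPd_shortExact hPe hS h₁.1 h₂.1.1 h₃.1.1
  have e' := clPd_shortExact hYe hp h h₂.2.1 h₃.2.1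
  refine ⟨h₁, h, ?_⟩
  have := congrArg (pushK n Y) e
  rw [map_add, h₂.2.2, h₃.2.2] at this
  exact add_right_cancel (this.symm.trans e')

theorem Nice.right {S : ShortComplex (KRR.PY n Y).Modules} (hS : S.ShortExact) (h₃ : CohPd S.X₃)
    (h₁ : Nice hPe hYe S.X₁) (h₂ : Nice hPe hYe S.X₂) : Nice hPe hYe S.X₃ := by
  haveI := Groth.L17.PushQCoh.additive_push (KRR.pr n Y)
  have hp := shortExact_push_reg hS h₁.1.2
  have hc : Coh.IsCoh (pf S.X₃) := Groth.L16.CohSupport.isCoh_of_iso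
    ((cokernelIsCokernel _).coconePointUniqueUpToIso hp.gIsCokernel)
    (Groth.L16.CohKernel.isCoh_kernel_cokernel h₁.2.1.1 h₂.2.1.1 _).2
  have h := CohPd.right hp h₁.2.1 h₂.2.1 hc
  have e := clPd_shortExact hPe hS h₁.1.1 h₂.1.1 h₃
  have e' := clPd_shortExact hYe hp h₁.2.1 h₂.2.1 h
  refine ⟨⟨h₃, regular_right hS h₁.1.2 h₂.1.2⟩, h, ?_⟩
  have := congrArg (pushK n Y) e
  rw [map_add, h₁.2.2, h₂.2.2] at this
  exact add_left_cancel (this.symm.trans e')

theorem Nice.iso {A B : (KRR.PY n Y).Modules} (e : A ≅ B) (h : Nice hPe hYe A) : Nice hPe hYe B := by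
  let w := (Scheme.Modules.pushforward (KRR.pr n Y)).mapIso e
  refine ⟨⟨h.1.1.iso e, isRegSheaf_iff.2 fun i hi => vt_iso e (isRegSheaf_iff.1 h.1.2 i hi)⟩, h.2.1.iso w, ?_⟩
  rw [← clPd_iso hPe e h.1.1, h.2.2]
  exact clPd_iso hYe w h.2.1

theorem isSumClosed_nice : IsSumClosed (fun M : (KRR.PY n Y).Modules => Nice hPe hYe M) where
  iso e h := h.iso hPe hYe e
  zero h := Nice.of_regP hPe hYe (isSumClosed_regP.zero h)
  biprod {A B} h h' := by
    haveI := Groth.L17.PushQCoh.additive_push (KRR.pr n Y)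
    have hS := (ShortComplex.Splitting.ofHasBinaryBiproduct A B).shortExact
    have hP := (hyp hPe).ext₁ _ hS h.1.1 h'.1.1
    have hp := shortExact_push_reg hS h.1.2
    have hp₂ := (hyp hYe).ext₁ _ hp h.2.1 h'.2.1
    refine ⟨⟨hP, isRegSheaf_iff.2 fun i hi => (isVan_vpush _).iso (Groth.L22.Reg.tensorBiprod _ A B) i
      ((isVan_vpush _).biprod i (isRegSheaf_iff.1 h.1.2 i hi) (isRegSheaf_iff.1 h'.1.2 i hi))⟩, hp₂, ?_⟩
    have e := congrArg (pushK n Y) (clPd_shortExact hPe hS h.1.1 hP h'.1.1)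
    rw [map_add, h.2.2, h'.2.2] at e
    exact e.trans (clPd_shortExact hYe hp h.2.1 hp₂ h'.2.1).symm

include hPe hYe in
theorem exists_nice_twists : ∀ (d : ℕ) {M : (KRR.PY n Y).Modules}, Coh.IsCoh M → PdLE d M →
    ∃ m₀ : ℕ, ∀ k, m₀ ≤ k → Nice hPe hYe (KRR.twF n Y (k : ℤ) M)
  | 0, M, hc, hp => by
    obtain ⟨m, hm⟩ := exists_r (vb_iff.2 ⟨hc, hp⟩)
    refine ⟨m, fun k hk => ?_⟩
    obtain ⟨c, rfl⟩ := Nat.exists_eq_add_of_le hk
    exact Nice.of_regP hPe hYe (hm.succ c).regP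
  | d + 1, M, hc, hp => by
    obtain ⟨L, p, hL, hep⟩ := hPe M hc
    haveI := hep
    have hS : (ShortComplex.mk (kernel.ι p) p (kernel.condition p)).ShortExact :=
      ShortComplex.ShortExact.mk' (ShortComplex.exact_of_f_is_kernel _ (kernelIsKernel p)) inferInstance inferInstance
    obtain ⟨a, ha⟩ := exists_nice_twists d (isCoh_left hS (vb_iff.1 hL).1 hc)
      (((vb_iff.1 hL).2.mono (Nat.zero_le d)).left hS hp)
    obtain ⟨b, hb⟩ := exists_r hL
    refine ⟨max a b, fun k hk => ?_⟩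
    obtain ⟨c, rfl⟩ := Nat.exists_eq_add_of_le ((le_max_right a b).trans hk)
    exact Nice.right hPe hYe (shortExact_tw hS ((b + c : ℕ) : ℤ))
      (cohPd_tensor' hPe (isFinLocFree_O _) ⟨hc, d + 1, hp⟩)
      (ha _ ((le_max_left a b).trans hk)) (Nice.of_regP hPe hYe (hb.succ c).regP)

include hPe hYe in
theorem nice_of_twists {M : (KRR.PY n Y).Modules} (hM : Good M)
    (h : ∀ k : ℕ, 1 ≤ k → Nice hPe hYe (KRR.twF n Y (k : ℤ) M)) : Nice hPe hYe M := by
  obtain ⟨e0⟩ := nonempty_tw_zero M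
  have hobj : ∀ j, j < n → Nice hPe hYe ((kosG M).obj j) := fun j hj => by
    refine ((copies_kosG M j).mem_and_cl (isSumClosed_nice hPe hYe) ?_).1
    rw [show (n : ℤ) - j = ((n - j : ℕ) : ℤ) by omega]
    exact h _ (by omega)
  obtain ⟨e⟩ := (copies_small (copies_kosG M n)).2 (Nat.choose_self _)
  let eM : (kosG M).obj n ≅ M := e ≪≫ eqToIso (by rw [sub_self]) ≪≫ e0
  have hgood : ∀ j, Good ((kosG M).obj j) := fun j => by
    rcases lt_trichotomy j n with hj | rfl | hj
    · exact (hobj j hj).1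
    · exact ⟨hM.1.iso eM.symm, isRegSheaf_iff.2 fun i hi => vt_iso eM.symm (isRegSheaf_iff.1 hM.2 i hi)⟩
    · exact ((isSumClosed_nice hPe hYe).zero (isZero_kosG M j hj)).1
  have hZreg : ∀ i j, n + 1 ≤ j + i → KRR.IsRegSheaf n Y ((kosG M).Z j) := by
    intro i
    induction i with
    | zero => exact fun j hj => (isSumClosed_regP.zero (isZero_Z (isZero_kosG M j (by omega)))).2
    | succ i ih =>
      exact fun j hj => regular_right (S := (kosG M).zSC j) (zSC_shortExact (exactAt_kosG M) j)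
        (ih (j + 1) (by omega)) (hgood (j + 1)).2
  have hZpd : ∀ j, CohPd ((kosG M).Z j) := by
    intro j
    induction j with
    | zero =>
      exact (hyp hPe).ker₁ _ (zSC₀_shortExact (exactAt_kosG M)) (hgood 0).1 (h (n + 1) (by omega)).1.1
    | succ j ih => exact (hyp hPe).ker₁ _ (zSC_shortExact (exactAt_kosG M) j) (hgood (j + 1)).1 ih
  have hZ : ∀ j, Good ((kosG M).Z j) := fun j => ⟨hZpd j, hZreg (n + 1) j (by omega)⟩
  have hnice : ∀ j, j < n → Nice hPe hYe ((kosG M).Z j) := by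
    intro j
    induction j with
    | zero => exact fun hj => Nice.left hPe hYe (zSC₀_shortExact (exactAt_kosG M)) (hZ 0) (hobj 0 hj) (h (n + 1) (by omega))
    | succ j ih =>
      exact fun hj => Nice.left hPe hYe (zSC_shortExact (exactAt_kosG M) j) (hZ (j + 1)) (hobj (j + 1) hj)
        (ih (by omega))
  refine Nice.iso hPe hYe eM ?_
  rcases n.eq_zero_or_pos with hn | hn
  · subst hn
    have hS := zSC₀_shortExact (exactAt_kosG M)
    haveI : IsIso (kosG M).zSC₀.g := hS.isIso_g_iff.2 (by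
      haveI : Epi ((kosG M).π 0) := (zSC_shortExact (exactAt_kosG M) 0).epi_g
      exact IsZero.of_epi ((kosG M).π 0) (isZero_kosG M 1 le_rfl))
    exact Nice.iso hPe hYe (asIso (kosG M).zSC₀.g).symm (h 1 le_rfl)
  · obtain ⟨m, rfl⟩ : ∃ m, n = m + 1 := ⟨n - 1, by omega⟩
    have hS := zSC_shortExact (exactAt_kosG M) m
    haveI : IsIso ((kosG M).zSC m).g := hS.isIso_g_iff.2 (by
      haveI : Epi ((kosG M).π (m + 1)) := (zSC_shortExact (exactAt_kosG M) (m + 1)).epi_g
      exact IsZero.of_epi ((kosG M).π (m + 1)) (isZero_kosG M (m + 2) le_rfl))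
    exact Nice.iso hPe hYe (asIso ((kosG M).zSC m).g).symm (hnice m (by omega))

include hPe hYe in
theorem nice_of_good {M : (KRR.PY n Y).Modules} (hM : Good M) : Nice hPe hYe M := by
  obtain ⟨hc, d, hd⟩ := hM.1
  obtain ⟨m₀, hm₀⟩ := exists_nice_twists hPe hYe d hc hd
  suffices key : ∀ j (k : ℕ), m₀ ≤ k + j → Nice hPe hYe (KRR.twF n Y (k : ℤ) M) by
    obtain ⟨e⟩ := nonempty_tw_zero M
    exact Nice.iso hPe hYe e (key m₀ 0 (by omega))
  intro j
  induction j with
  | zero => exact fun k hk => hm₀ k (by omega)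
  | succ j ih =>
    intro k hk
    refine nice_of_twists hPe hYe ⟨cohPd_tensor' hPe (isFinLocFree_O _) hM.1, regular_twF hM.2 k⟩ fun i hi => ?_
    obtain ⟨e₁⟩ := nonempty_twF_iso n Y (i : ℤ) (KRR.twF n Y (k : ℤ) M)
    obtain ⟨e₂⟩ := nonempty_twF_iso n Y (k : ℤ) M
    obtain ⟨e₃⟩ := nonempty_twF_iso n Y ((k + i : ℕ) : ℤ) M
    obtain ⟨a⟩ := nonempty_OT_add n Y (show (i : ℤ) + (k : ℤ) = ((k + i : ℕ) : ℤ) by omega)
    exact Nice.iso hPe hYe (e₃ ≪≫ tensorIso a.symm (Iso.refl _) ≪≫ Groth.L00.Tensor.tensorAssoc _ _ _ ≪≫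
      tensorIso (Iso.refl _) e₂.symm ≪≫ e₁.symm) (ih (k + i) (by omega))

end Groth.L12.KRes
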