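import Groth.Agent.L12.KRes.PushVan
import Groth.Agent.L12.KRes.PushPrPd
import Groth.Agent.L17.ClosedPush

/-!
# Regularity of direct images along closed immersions into `ℙⁿ_Y`
-/

set_option autoImplicit false
set_option linter.style.haveILetI false
set_option backward.isDefEq.respectTransparency false
set_option backward.isDefEq.respectTransparency.types false

universe u

open CategoryTheory CategoryTheory.Limits AlgebraicGeometry

attribute [local instance] HasDerivedCategory.standard

noncomputable section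

namespace Groth.L12.KRes

theorem isRegularClosedImmersion_comp_iso {X X' Y : Scheme.{u}} (e : X' ⟶ X) [IsIso e] {f : X ⟶ Y}
    (hf : Mor2.IsRegularClosedImmersion f) : Mor2.IsRegularClosedImmersion (e ≫ f) := by
  haveI := hf.1
  refine ⟨inferInstance, fun z => ?_⟩
  obtain ⟨U, hU, hz, rs, hrs, hker⟩ := hf.2 (e z)
  exact ⟨U, hU, hz, rs, hrs, by rw [Scheme.Hom.ker_comp_of_isIso]; exact hker⟩

theorem isNoetherian_PY (n : ℕ) (Y : Scheme.{u}) [IsNoetherian Y] : IsNoetherian (KRR.PY n Y) := by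
  haveI : IsProper (KRR.pr n Y) := Groth.L16.ProjSpace.isProper_toBase n Y
  haveI : CompactSpace (KRR.PY n Y) := QuasiCompact.compactSpace_of_compactSpace (KRR.pr n Y)
  haveI : IsLocallyNoetherian (KRR.PY n Y) := LocallyOfFiniteType.isLocallyNoetherian (KRR.pr n Y)
  exact { }

theorem hasEnough_of_closed {X P : Scheme.{u}} [IsNoetherian X] [IsNoetherian P] (s : X ⟶ P) [IsClosedImmersion s]
    (hPe : KRR.HasEnoughLocFree P) : KRR.HasEnoughLocFree X := fun F hF => by
  obtain ⟨E, p, hE, hp⟩ := hPe _ (Groth.L16.CohClosedPush.isCoh_push s hF)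
  haveI := hp
  haveI := Groth.L17.ClosedPush.isIso_counit s
  haveI : (Scheme.Modules.pullback s).IsLeftAdjoint :=
    (Scheme.Modules.pullbackPushforwardAdjunction s).isLeftAdjoint
  exact ⟨_, (Scheme.Modules.pullback s).map p ≫ (Scheme.Modules.pullbackPushforwardAdjunction s).counit.app F,
    Groth.L29.LocFree.pullback s hE, epi_comp _ _⟩

variable {n : ℕ} {Y Z : Scheme.{u}}

theorem isRegSheaf_push (j : Z ⟶ KRR.PY n Y) [IsClosedImmersion j] (G : Z.Modules)
    (h : ∀ i : ℕ, 1 ≤ i → ∀ W : Y.Opens, IsAffineOpen W →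
      Subsingleton (Groth.L17.HU (X := Z.toTopCat) ((j ≫ KRR.pr n Y) ⁻¹ᵁ W)
        (Coh.toAb (CohB1.tensorMod ((Scheme.Modules.pullback j).obj (Twist.twistOver n Y (-(i : ℤ)))) G)) i)) :
    KRR.IsRegSheaf n Y ((Scheme.Modules.pushforward j).obj G) :=
  Groth.L22.Reg.isRegSheaf_iff.2 fun i hi =>
    (Groth.L22.Reg.isVan_vpush _).iso
      (Groth.L00.Tensor.tensorComm _ _ ≪≫
        (Groth.L17.ClosedPush.thetaIso j G).app (Twist.twistOver n Y (-(i : ℤ)))).symm i
      (vpush_push_of_HU j _ i (h i hi))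

end Groth.L12.KRes
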