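import Groth.Agent.L12.KRes.Basic
import Groth.Agent.L04.RegularPd

/-!
# Coherent modules on a regular Noetherian scheme have bounded projective dimension
-/

set_option autoImplicit false
set_option linter.style.haveILetI false
set_option backward.isDefEq.respectTransparency false
set_option backward.isDefEq.respectTransparency.types false

universe u

open CategoryTheory CategoryTheory.Limits AlgebraicGeometry

noncomputable section

namespace Groth.L12.KRes

variable {X : Scheme.{u}} [IsNoetherian X]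

theorem projective_stalk_iff_flatAt {M : X.Modules} (hM : Coh.IsCoh M) (x : X) :
    HasProjectiveDimensionLT ((Groth.L00.Stk.F X x).obj M) 1 ↔ FlatMod.IsFlatAt M x := by
  haveI : Module.Finite (X.presheaf.stalk x) (M.presheaf.stalk x) :=
    Groth.L18.LFP.finite_stalk M (Groth.L15.Ref.isFP_of_isCoh hM) x
  constructor
  · intro h
    haveI : Projective ((Groth.L00.Stk.F X x).obj M) := projective_iff_hasProjectiveDimensionLT_one.2 h
    haveI : Module.Projective (X.presheaf.stalk x) ((Groth.L00.Stk.F X x).obj M) :=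
      (IsProjective.iff_projective _).2 inferInstance
    show Module.Flat (X.presheaf.stalk x) ((Groth.L00.Stk.F X x).obj M)
    infer_instance
  · intro h
    haveI : Module.Flat (X.presheaf.stalk x) (M.presheaf.stalk x) := h
    haveI : Module.Free (X.presheaf.stalk x) (M.presheaf.stalk x) := Module.free_of_flat_of_isLocalRing
    haveI : Module.Free (X.presheaf.stalk x) ((Groth.L00.Stk.F X x).obj M) :=
      ‹Module.Free (X.presheaf.stalk x) (M.presheaf.stalk x)›
    haveI : Projective ((Groth.L00.Stk.F X x).obj M) :=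
      ((Groth.L00.Stk.F X x).obj M).projective_of_categoryTheory_projective
    infer_instance

theorem isOpen_flatLocus {M : X.Modules} (hM : Coh.IsCoh M) : IsOpen {x : X | FlatMod.IsFlatAt M x} := by
  have hfp := Groth.L15.Ref.isFP_of_isCoh hM
  refine isOpen_iff_forall_mem_open.2 fun x hx => ?_
  obtain ⟨U, hxU, hU⟩ := (Groth.L18.LFP.isFlatAt_iff M hfp x).1 hx
  exact ⟨U, fun y hy => (Groth.L18.LFP.isFlatAt_iff M hfp y).2 ⟨U, hy, hU⟩, U.2, hxU⟩

theorem exists_syzygy (hX : KRR.HasEnoughLocFree X) : ∀ (n : ℕ) {A : X.Modules}, Coh.IsCoh A →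
    ∃ K : X.Modules, Coh.IsCoh K ∧ ∀ x : X, HasProjectiveDimensionLT ((Groth.L00.Stk.F X x).obj A) (n + 1) ↔
      HasProjectiveDimensionLT ((Groth.L00.Stk.F X x).obj K) 1
  | 0, A, hA => ⟨A, hA, fun _ => Iff.rfl⟩
  | n + 1, A, hA => by
    obtain ⟨E, p, hE, hep⟩ := hX A hA
    haveI := hep
    have hS : (ShortComplex.mk (kernel.ι p) p (kernel.condition p)).ShortExact :=
      ShortComplex.ShortExact.mk' (ShortComplex.exact_of_f_is_kernel _ (kernelIsKernel p)) inferInstance inferInstance
    obtain ⟨K, hK, hiff⟩ := exists_syzygy hX n (isCoh_left hS (vb_iff.1 hE).1 hA)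
    refine ⟨K, hK, fun x => ?_⟩
    have hP : Projective ((Groth.L00.Stk.F X x).obj E) :=
      projective_iff_hasProjectiveDimensionLT_one.2 ((vb_iff.1 hE).2 x)
    exact ((shortExact_stalk hS x).hasProjectiveDimensionLT_X₃_iff n hP).trans (hiff x)

theorem isOpen_pdLocus (hX : KRR.HasEnoughLocFree X) (n : ℕ) {A : X.Modules} (hA : Coh.IsCoh A) :
    IsOpen {x : X | HasProjectiveDimensionLT ((Groth.L00.Stk.F X x).obj A) (n + 1)} := by
  obtain ⟨K, hK, hiff⟩ := exists_syzygy hX n hA
  simp only [hiff, projective_stalk_iff_flatAt hK]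
  exact isOpen_flatLocus hK

theorem cohPd_of_pointwise (hX : KRR.HasEnoughLocFree X) {A : X.Modules} (hA : Coh.IsCoh A)
    (h : ∀ x : X, ∃ d, HasProjectiveDimensionLT ((Groth.L00.Stk.F X x).obj A) (d + 1)) : CohPd A := by
  let U : ℕ → Set X := fun n => {x | HasProjectiveDimensionLT ((Groth.L00.Stk.F X x).obj A) (n + 1)}
  have hcov : (Set.univ : Set X) ⊆ ⋃ n, U n := fun x _ => Set.mem_iUnion.2 (h x)
  have hmono : Monotone U := fun m n hmn x hx =>
    haveI : HasProjectiveDimensionLT ((Groth.L00.Stk.F X x).obj A) (m + 1) := hx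
    hasProjectiveDimensionLT_of_ge _ (m + 1) (n + 1) (by omega)
  obtain ⟨t, ht⟩ := isCompact_univ.elim_finite_subcover U (fun n => isOpen_pdLocus hX n hA) hcov
  refine ⟨hA, t.sup id, fun x => ?_⟩
  obtain ⟨i, hi, hxi⟩ := Set.mem_iUnion₂.1 (ht (Set.mem_univ x))
  exact hmono (Finset.le_sup (f := id) hi) hxi

theorem cohPd_of_regular (hreg : ∀ x : X, IsRegularLocalRing (X.presheaf.stalk x)) (hX : KRR.HasEnoughLocFree X)
    {A : X.Modules} (hA : Coh.IsCoh A) : CohPd A :=
  cohPd_of_pointwise hX hA fun x => by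
    haveI := hreg x
    exact ⟨_, Groth.L04.hasProjectiveDimensionLE_of_regularLocal ((isRegularLocalRing_iff _).1 ‹_›).symm _⟩

end Groth.L12.KRes
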