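import Groth.Agent.L12.KRes.Basic
import Groth.Agent.L29.K.Sub

/-!
# Finite locally free resolutions
-/

set_option autoImplicit false
set_option linter.style.haveILetI false
set_option backward.isDefEq.respectTransparency false
set_option backward.isDefEq.respectTransparency.types false

universe v u

open CategoryTheory CategoryTheory.Limits AlgebraicGeometry
open scoped ZeroObject

noncomputable section

namespace Groth.L12.KRes

section Abstract

variable {C : Type u} [Category.{v} C] [Abelian C]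

/-- The cokernel of the differential into degree `i`. -/
abbrev Q (L : ChainComplex C ℕ) (i : ℕ) : C := cokernel (L.d (i + 1) i)

/-- The short complex `Q (i+1) ⟶ L i ⟶ Q i`. -/
abbrev qSC (L : ChainComplex C ℕ) (i : ℕ) : ShortComplex C :=
  ShortComplex.mk (cokernel.desc (L.d (i + 1 + 1) (i + 1)) (L.d (i + 1) i) (L.d_comp_d _ _ _))
    (cokernel.π (L.d (i + 1) i))
    (by ext; rw [cokernel.π_desc_assoc, cokernel.condition, comp_zero])

theorem shortExact_qSC (L : ChainComplex C ℕ) (i : ℕ) (h : L.ExactAt (i + 1)) : (qSC L i).ShortExact := by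
  have hm : Mono (qSC L i).f :=
    ((L.exactAt_iff' (i + 1 + 1) (i + 1) i (by simp) (by simp)).1 h).mono_cokernelDesc
  refine ShortComplex.ShortExact.mk' (ShortComplex.exact_of_g_is_cokernel _ ?_) hm
    (inferInstanceAs (Epi (cokernel.π (L.d (i + 1) i))))
  refine Cofork.IsColimit.mk _
    (fun s => cokernel.desc (L.d (i + 1) i) s.π (by
      rw [← cokernel.π_desc (L.d (i + 1 + 1) (i + 1)) (L.d (i + 1) i) (L.d_comp_d _ _ _), Category.assoc,
        CokernelCofork.condition s, comp_zero]))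
    (fun s => cokernel.π_desc _ _ _) (fun s m hm' => by
      exact (cancel_epi (cokernel.π (L.d (i + 1) i))).1 (hm'.trans (cokernel.π_desc _ _ _).symm))

theorem isZero_Q (L : ChainComplex C ℕ) {i : ℕ} (h : IsZero (L.X i)) : IsZero (Q L i) :=
  IsZero.of_epi (cokernel.π (L.d (i + 1) i)) h

theorem exactAt_of_quasiIso {L : ChainComplex C ℕ} {A : C} (π : L ⟶ (ChainComplex.single₀ C).obj A)
    [QuasiIso π] (i : ℕ) : L.ExactAt (i + 1) :=
  (quasiIsoAt_iff_exactAt' π (i + 1) (ChainComplex.exactAt_succ_single_obj _ _)).1 inferInstance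

theorem nonempty_Q_zero_iso {L : ChainComplex C ℕ} {A : C} (π : L ⟶ (ChainComplex.single₀ C).obj A)
    [QuasiIso π] : Nonempty (Q L 0 ≅ A) := by
  have h := (ChainComplex.quasiIsoAt₀_iff π).1 inferInstance
  rw [ShortComplex.quasiIso_iff_of_zeros' _ (L.shape 0 0 (by simp)) rfl rfl] at h
  obtain ⟨he, hepi⟩ := h
  haveI := hepi
  exact ⟨IsColimit.coconePointUniqueUpToIso (cokernelIsCokernel _) he.gIsCokernel⟩

/-- The alternating sum of the classes of a finite resolution. -/
theorem cl_resolution {P : ObjectProperty C} {L : ChainComplex C ℕ} {n : ℕ}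
    (hz : ∀ i, n < i → IsZero (L.X i)) (hex : ∀ i, L.ExactAt (i + 1)) (hL : ∀ i, P (L.X i)) (hQ : ∀ i, P (Q L i)) :
    KZero.clSub P (Q L 0) = ∑ k ∈ Finset.range (n + 1), (-1 : ℤ) ^ k • KZero.clSub P (L.X k) := by
  have key : ∀ d j, j + d = n + 1 → KZero.clSub P (Q L j) =
      ∑ k ∈ Finset.range d, (-1 : ℤ) ^ k • KZero.clSub P (L.X (j + k)) := by
    intro d
    induction d with
    | zero =>
      intro j hj
      rw [Finset.sum_range_zero, Groth.L29.KSub.clSub_zero P (isZero_Q L (hz j (by omega))) (hQ j)]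
    | succ d ih =>
      intro j hj
      have h := Groth.L29.KSub.clSub_shortExact P (shortExact_qSC L j (hex j)) (hQ (j + 1)) (hL j) (hQ j)
      rw [eq_sub_of_add_eq' h.symm, ih (j + 1) (by omega), Finset.sum_range_succ']
      simp only [pow_zero, one_smul, Nat.add_zero, pow_succ, mul_neg, mul_one, neg_smul, Finset.sum_neg_distrib,
        Nat.add_right_comm j 1, ← Nat.add_assoc]
      abel
  simpa using key (n + 1) 0 (Nat.zero_add _)

end Abstract

variable {X : Scheme.{u}} [IsNoetherian X]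

/-- The modules of a finite resolution by locally free modules. -/
theorem cohPd_Q {L : ChainComplex X.Modules ℕ} {n : ℕ} (hL : ∀ i, FlatMod.IsFinLocFree (L.X i))
    (hz : ∀ i, n < i → IsZero (L.X i)) (hex : ∀ i, L.ExactAt (i + 1)) (j : ℕ) :
    Coh.IsCoh (Q L j) ∧ PdLE (n - j) (Q L j) := by
  refine ⟨(Groth.L16.CohKernel.isCoh_kernel_cokernel (vb_iff.1 (hL _)).1 (vb_iff.1 (hL j)).1 _).2, ?_⟩
  have key : ∀ d j, j + d = n → PdLE d (Q L j) := by
    intro d
    induction d with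
    | zero =>
      intro j hj
      have hzero : IsZero (qSC L j).X₁ := isZero_Q L (hz (j + 1) (by omega))
      haveI : IsIso (qSC L j).g := (shortExact_qSC L j (hex j)).isIso_g_iff.2 hzero
      exact (vb_iff.1 (hL j)).2.iso (asIso (qSC L j).g)
    | succ d ih =>
      intro j hj
      exact (ih (j + 1) (by omega)).right (shortExact_qSC L j (hex j)) ((vb_iff.1 (hL j)).2.mono (by omega))
  rcases Nat.lt_or_ge n j with h | h
  · exact PdLE.of_isZero (isZero_Q L (hz j h))
  · exact key (n - j) j (by omega)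

theorem cohPd_of_isLFRes {A : X.Modules} {n : ℕ} {L : ChainComplex X.Modules ℕ}
    {π : L ⟶ (ChainComplex.single₀ X.Modules).obj A} (h : KRR.IsLFRes A n L π) : CohPd A := by
  haveI := h.quasiIso
  obtain ⟨e⟩ := nonempty_Q_zero_iso π
  obtain ⟨hc, hp⟩ := cohPd_Q h.finLocFree h.isZero (fun i => exactAt_of_quasiIso π i) 0
  exact CohPd.iso e ⟨hc, n - 0, hp⟩

theorem cl_isLFRes {A : X.Modules} {n : ℕ} {L : ChainComplex X.Modules ℕ}
    {π : L ⟶ (ChainComplex.single₀ X.Modules).obj A} (h : KRR.IsLFRes A n L π) :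
    KZero.clSub (fun M : X.Modules => CohPd M) A =
      ∑ k ∈ Finset.range (n + 1), (-1 : ℤ) ^ k • KZero.clSub (fun M : X.Modules => CohPd M) (L.X k) := by
  haveI := h.quasiIso
  have hQ : ∀ j, CohPd (Q L j) := fun j =>
    ⟨(cohPd_Q h.finLocFree h.isZero (fun i => exactAt_of_quasiIso π i) j).1, n - j,
      (cohPd_Q h.finLocFree h.isZero (fun i => exactAt_of_quasiIso π i) j).2⟩
  obtain ⟨e⟩ := nonempty_Q_zero_iso π
  rw [← Groth.L29.KSub.clSub_iso _ e (isZero_zero _)
    ⟨(vb_iff.1 (Groth.L29.LocFree.of_isZero (isZero_zero _))).1, 0, PdLE.of_isZero (isZero_zero _)⟩ (hQ 0)]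
  exact cl_resolution h.isZero (fun i => exactAt_of_quasiIso π i)
    (fun i => ⟨(vb_iff.1 (h.finLocFree i)).1, 0, (vb_iff.1 (h.finLocFree i)).2⟩) hQ

open Groth.L29.Resolution in
theorem exists_stream (hX : KRR.HasEnoughLocFree X) : ∀ (n : ℕ) {A : X.Modules}, Coh.IsCoh A → PdLE n A →
    ∃ s : Stream (KRR.vbP X) A, ∀ i, n < i → IsZero (s.L i)
  | 0, A, hc, hp => by
    let s₀ : Stream (KRR.vbP X) (0 : X.Modules) :=
      { Z := fun _ => 0, L := fun _ => 0, i := fun _ => 0, p := fun _ => 0, w := fun _ => zero_comp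
        exact := fun _ => ShortComplex.ShortExact.mk' (ShortComplex.exact_of_isZero_X₂ _ (isZero_zero _))
          ((isZero_zero X.Modules).mono _) ((isZero_zero X.Modules).epi _)
        mem := fun _ => Groth.L29.LocFree.of_isZero (isZero_zero _), start := Iso.refl _ }
    refine ⟨s₀.prepend (L := A) ((isZero_zero _).to_ A) (Iso.refl A).hom ((isZero_zero _).eq_of_src _ _)
      (Groth.L29.KSub.shortExact_of_iso (Iso.refl A) (isZero_zero _)) (vb_iff.2 ⟨hc, hp⟩), fun i hi => ?_⟩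
    obtain ⟨j, rfl⟩ : ∃ j, i = j + 1 := ⟨i - 1, by omega⟩
    exact isZero_zero _
  | n + 1, A, hc, hp => by
    obtain ⟨E, p, hE, hep⟩ := hX A hc
    haveI := hep
    have hS : (ShortComplex.mk (kernel.ι p) p (kernel.condition p)).ShortExact :=
      ShortComplex.ShortExact.mk' (ShortComplex.exact_of_f_is_kernel _ (kernelIsKernel p)) inferInstance inferInstance
    obtain ⟨s, hs⟩ := exists_stream hX n (isCoh_left hS (vb_iff.1 hE).1 hc)
      (((vb_iff.1 hE).2.mono (Nat.zero_le n)).left hS hp)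
    refine ⟨s.prepend _ _ _ hS hE, fun i hi => ?_⟩
    obtain ⟨j, rfl⟩ : ∃ j, i = j + 1 := ⟨i - 1, by omega⟩
    exact hs j (by omega)

theorem hasLFRes_of_cohPd (hX : KRR.HasEnoughLocFree X) {A : X.Modules} (h : CohPd A) : KRR.HasLFRes A := by
  obtain ⟨hc, n, hn⟩ := h
  obtain ⟨s, hs⟩ := exists_stream hX n hc hn
  let L : ChainComplex X.Modules ℕ := ChainComplex.of s.L (fun m => s.p (m + 1) ≫ s.i m)
    (fun m => by rw [Category.assoc, reassoc_of% (s.w (m + 1)), zero_comp, comp_zero])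
  have hd : ∀ m, L.d (m + 1) m = s.p (m + 1) ≫ s.i m := fun m =>
    ChainComplex.of_d s.L (fun m => s.p (m + 1) ≫ s.i m) m
  have hw : L.d 1 0 ≫ s.p 0 ≫ s.start.hom = 0 := by
    rw [hd 0, Category.assoc, reassoc_of% (s.w 0), zero_comp, comp_zero]
  refine ⟨n, L, (ChainComplex.toSingle₀Equiv L A).symm ⟨s.p 0 ≫ s.start.hom, hw⟩,
    s.mem, hs, ⟨fun i => ?_⟩⟩
  cases i with
  | zero =>
    rw [ChainComplex.quasiIsoAt₀_iff, ShortComplex.quasiIso_iff_of_zeros' _ (L.shape 0 0 (by simp)) rfl rfl]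
    haveI := (s.exact 0).epi_g
    haveI := (s.exact 1).epi_g
    have hepi : Epi (s.p 0 ≫ s.start.hom) := epi_comp _ _
    refine (ShortComplex.exact_and_epi_g_iff_of_iso (S₂ := ShortComplex.mk (L.d 1 0) (s.p 0 ≫ s.start.hom) hw)
      (ShortComplex.isoMk (Iso.refl _) (Iso.refl _) (Iso.refl _) (by simp [L]) (by simp))).2 ⟨?_, hepi⟩
    refine ShortComplex.exact_of_g_is_cokernel _ ?_
    have hc' : IsColimit (CokernelCofork.ofπ (f := L.d 1 0) (s.p 0)
        (by rw [hd]; exact (Category.assoc _ _ _).trans ((congrArg _ (s.w 0)).trans comp_zero))) :=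
      isCokernelEpiComp (s.exact 0).exact.gIsCokernel (s.p 1) (hd 0)
    exact IsColimit.ofIsoColimit hc' (Cofork.ext s.start rfl)
  | succ m =>
    rw [quasiIsoAt_iff_exactAt' _ _ (ChainComplex.exactAt_succ_single_obj _ _),
      L.exactAt_iff' (m + 1 + 1) (m + 1) m (by simp) (by simp)]
    haveI := (s.exact m).mono_f
    haveI := (s.exact (m + 1 + 1)).epi_g
    let S' := ShortComplex.mk (L.d (m + 1 + 1) (m + 1)) (s.p (m + 1))
      (by rw [hd]; exact (Category.assoc _ _ _).trans ((congrArg _ (s.w (m + 1))).trans comp_zero))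
    let φ : S' ⟶ L.sc' (m + 1 + 1) (m + 1) m :=
      ShortComplex.homMk (𝟙 _) (𝟙 _) (s.i m) ((Category.id_comp _).trans (Category.comp_id _).symm)
        ((Category.id_comp _).trans (hd m))
    haveI : Epi φ.τ₁ := inferInstanceAs (Epi (𝟙 _))
    haveI : IsIso φ.τ₂ := inferInstanceAs (IsIso (𝟙 _))
    haveI : Mono φ.τ₃ := ‹Mono (s.i m)›
    rw [← ShortComplex.exact_iff_of_epi_of_isIso_of_mono φ]
    let ψ : S' ⟶ ShortComplex.mk (s.i (m + 1)) (s.p (m + 1)) (s.w (m + 1)) :=
      ShortComplex.homMk (s.p (m + 1 + 1)) (𝟙 _) (𝟙 _) ((Category.comp_id _).trans (hd (m + 1))).symm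
        ((Category.id_comp _).trans (Category.comp_id _).symm)
    haveI : Epi ψ.τ₁ := ‹Epi (s.p (m + 1 + 1))›
    haveI : IsIso ψ.τ₂ := inferInstanceAs (IsIso (𝟙 _))
    haveI : Mono ψ.τ₃ := inferInstanceAs (Mono (𝟙 _))
    exact (ShortComplex.exact_iff_of_epi_of_isIso_of_mono ψ).2 (s.exact (m + 1)).exact

theorem hasLFRes_iff (hX : KRR.HasEnoughLocFree X) {A : X.Modules} : KRR.HasLFRes A ↔ CohPd A :=
  ⟨fun ⟨_, _, _, h⟩ => cohPd_of_isLFRes h, hasLFRes_of_cohPd hX⟩

end Groth.L12.KRes
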