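import Groth.Agent.L12.KRes.Push
import Groth.Agent.L12.KRes.Cx

/-!
# The push-forward on `K₀` along a regular closed immersion
-/

set_option autoImplicit false
set_option linter.style.haveILetI false
set_option backward.isDefEq.respectTransparency false
set_option backward.isDefEq.respectTransparency.types false

universe v u

open CategoryTheory CategoryTheory.Limits AlgebraicGeometry
open scoped ZeroObject

noncomputable section

attribute [local instance] preservesBinaryBiproducts_of_preservesBinaryCoproducts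

namespace Groth.L12.KRes

theorem shortExact_push_closed {X Y : Scheme.{u}} (f : X ⟶ Y) [IsClosedImmersion f]
    [(Scheme.Modules.pushforward f).Additive] {S : ShortComplex X.Modules} (hS : S.ShortExact) :
    (S.map (Scheme.Modules.pushforward f)).ShortExact := by
  haveI := Groth.L17.ClosedPush.preservesColimits_push f
  haveI : PreservesFiniteColimits (Scheme.Modules.pushforward f) :=
    ⟨fun J _ _ => inferInstance⟩
  haveI : (Scheme.Modules.pushforward f).IsRightAdjoint :=
    (Scheme.Modules.pullbackPushforwardAdjunction f).isRightAdjoint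
  haveI : PreservesFiniteLimits (Scheme.Modules.pushforward f) := inferInstance
  exact hS.map_of_exact _

section Bij

variable {Y : Scheme.{u}} [IsNoetherian Y]

/-- `K(Y) ⟶ K₀` of coherent modules of bounded projective dimension. -/
def toPd (hYe : KRR.HasEnoughLocFree Y) : SGA6.Kvb Y →+ KZero.K0sub (fun M : Y.Modules => CohPd M) :=
  SGA6.mapSub (𝟭 Y.Modules) (KRR.vbP Y) (fun M : Y.Modules => CohPd M) (hyp hYe).le

theorem toPd_cl (hYe : KRR.HasEnoughLocFree Y) {E : Y.Modules} (hE : FlatMod.IsFinLocFree E) :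
    toPd hYe (KRR.cl Y E) = KZero.clSub (fun M : Y.Modules => CohPd M) E := by
  rw [toPd, KRR.cl, Groth.L29.KSub.clSub_of (KRR.vbP Y) hE,
    Groth.L29.KSub.clSub_of (fun M : Y.Modules => CohPd M) ((hyp hYe).le E hE)]
  rfl

theorem bijective_toPd (hYe : KRR.HasEnoughLocFree Y) : Function.Bijective (toPd hYe) :=
  Groth.L29.Resolution.bijective (hyp hYe) (hfin hYe)

/-- The class of a coherent module of bounded projective dimension in `K(Y)`. -/
def clPd (hYe : KRR.HasEnoughLocFree Y) (M : Y.Modules) : SGA6.Kvb Y :=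
  (AddEquiv.ofBijective (toPd hYe) (bijective_toPd hYe)).symm (KZero.clSub (fun M : Y.Modules => CohPd M) M)

theorem toPd_clPd (hYe : KRR.HasEnoughLocFree Y) (M : Y.Modules) :
    toPd hYe (clPd hYe M) = KZero.clSub (fun M : Y.Modules => CohPd M) M :=
  (AddEquiv.ofBijective (toPd hYe) (bijective_toPd hYe)).apply_symm_apply _

theorem clPd_vb (hYe : KRR.HasEnoughLocFree Y) {E : Y.Modules} (hE : FlatMod.IsFinLocFree E) :
    clPd hYe E = KRR.cl Y E :=
  (bijective_toPd hYe).1 (by rw [toPd_clPd, toPd_cl hYe hE])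

theorem clPd_shortExact (hYe : KRR.HasEnoughLocFree Y) {S : ShortComplex Y.Modules} (hS : S.ShortExact)
    (h₁ : CohPd S.X₁) (h₂ : CohPd S.X₂) (h₃ : CohPd S.X₃) :
    clPd hYe S.X₂ = clPd hYe S.X₁ + clPd hYe S.X₃ :=
  (bijective_toPd hYe).1 (by
    rw [map_add, toPd_clPd, toPd_clPd, toPd_clPd]
    exact Groth.L29.KSub.clSub_shortExact _ hS h₁ h₂ h₃)

theorem clPd_iso (hYe : KRR.HasEnoughLocFree Y) {M N : Y.Modules} (e : M ≅ N) (hM : CohPd M) :
    clPd hYe M = clPd hYe N :=
  (bijective_toPd hYe).1 (by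
    rw [toPd_clPd, toPd_clPd]
    exact Groth.L29.KSub.clSub_iso _ e (isZero_zero _)
      ((hyp hYe).le _ (Groth.L29.LocFree.of_isZero (isZero_zero _))) hM)

theorem clPd_isLFRes (hYe : KRR.HasEnoughLocFree Y) {A : Y.Modules} {n : ℕ} {L : ChainComplex Y.Modules ℕ}
    {π : L ⟶ (ChainComplex.single₀ Y.Modules).obj A} (h : KRR.IsLFRes A n L π) :
    clPd hYe A = ∑ k ∈ Finset.range (n + 1), (-1 : ℤ) ^ k • KRR.cl Y (L.X k) :=
  (bijective_toPd hYe).1 (by
    rw [toPd_clPd, cl_isLFRes h, map_sum]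
    exact Finset.sum_congr rfl fun k _ => by rw [map_zsmul, toPd_cl hYe (h.finLocFree k)])

end Bij

variable {X Y : Scheme.{u}} (f : X ⟶ Y) [IsNoetherian X] [IsNoetherian Y]
  (hf : Mor2.IsRegularClosedImmersion f) (hYe : KRR.HasEnoughLocFree Y)

/-- The push-forward `K(X) → K(Y)`. -/
def pushCl : SGA6.Kvb X →+ SGA6.Kvb Y :=
  Groth.L29.KSub.lift (fun F => clPd hYe ((Scheme.Modules.pushforward f).obj F)) fun S hS h₁ h₂ h₃ => by
    haveI := hf.1
    haveI := Groth.L17.PushQCoh.additive_push f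
    exact clPd_shortExact hYe (shortExact_push_closed f hS) (cohPd_push f hf hYe h₁) (cohPd_push f hf hYe h₂)
      (cohPd_push f hf hYe h₃)

theorem pushCl_cl {F : X.Modules} (hF : FlatMod.IsFinLocFree F) :
    pushCl f hf hYe (KRR.cl X F) = clPd hYe ((Scheme.Modules.pushforward f).obj F) :=
  Groth.L29.KSub.lift_clSub _ _ hF

variable {KX : Type v} [CommRing KX] {KY : Type v} [CommRing KY] (φX : SGA6.Kvb X →+ KX) (φY : SGA6.Kvb Y →+ KY)

include hf in
theorem map_pushCl {g : KX →+ KY} (hg : KRR.IsPushCl f φX φY g) (x : SGA6.Kvb X) :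
    g (φX x) = φY (pushCl f hf hYe x) := by
  refine DFunLike.congr_fun (f := g.comp φX) (g := φY.comp (pushCl f hf hYe)) (Groth.L29.KSub.hom_ext fun F hF => ?_) x
  obtain ⟨n, L, π, hL⟩ := hasLFRes_of_cohPd hYe (cohPd_push f hf hYe hF)
  change g (φX (KRR.cl X F)) = φY (pushCl f hf hYe (KRR.cl X F))
  rw [hg F hF n L π hL, pushCl_cl f hf hYe hF, clPd_isLFRes hYe hL, map_sum]
  exact Finset.sum_congr rfl fun k _ => (map_zsmul φY _ _).symm

include hf hYe in
theorem existsUnique_isPushCl (hφ : Function.Bijective φX) : ∃! g : KX →+ KY, KRR.IsPushCl f φX φY g := by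
  let e := AddEquiv.ofBijective φX hφ
  refine ⟨φY.comp ((pushCl f hf hYe).comp e.symm.toAddMonoidHom), fun F hF n L π hL => ?_, fun g hg => ?_⟩
  · show φY (pushCl f hf hYe (e.symm (φX (KRR.cl X F)))) = _
    rw [show e.symm (φX (KRR.cl X F)) = KRR.cl X F from e.symm_apply_apply _, pushCl_cl f hf hYe hF,
      clPd_isLFRes hYe hL, map_sum]
    exact Finset.sum_congr rfl fun k _ => map_zsmul φY _ _
  · refine AddMonoidHom.ext fun x => ?_
    obtain ⟨a, rfl⟩ := hφ.2 x
    rw [map_pushCl f hf hYe φX φY hg a]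
    show _ = φY (pushCl f hf hYe (e.symm (φX a)))
    rw [show e.symm (φX a) = a from e.symm_apply_apply _]

end Groth.L12.KRes
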