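import Groth.Agent.L12.KRes.Regular
import Groth.Agent.L17.ClosedPush
import Groth.Agent.L20.Infinitesimal.Flat
import Groth.Agent.L16.CohClosedPush
import Groth.Prelude.Def_Mor2
import Mathlib.RingTheory.Regular.Flat

/-!
# Direct images of bundles along a regular closed immersion
-/

set_option autoImplicit false
set_option linter.style.haveILetI false
set_option backward.isDefEq.respectTransparency false
set_option backward.isDefEq.respectTransparency.types false

universe u

open CategoryTheory CategoryTheory.Limits AlgebraicGeometry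

noncomputable section

namespace Groth.L12.KRes

theorem hasProjectiveDimensionLT_of_regular {R : Type u} [CommRing R] [IsNoetherianRing R] [IsLocalRing R]
    {rs : List R} (hrs : RingTheory.Sequence.IsRegular R rs) :
    HasProjectiveDimensionLT (ModuleCat.of R (R ⧸ Ideal.ofList rs)) (rs.length + 1) := by
  have h := ModuleCat.projectiveDimension_quotient_eq_length.{u} rs hrs
  rw [projectiveDimension_eq_of_iso (Shrink.linearEquiv.{u} R (R ⧸ Ideal.ofList rs)).toModuleIso] at h
  exact (projectiveDimension_le_iff _ rs.length).1 h.le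

theorem hasProjectiveDimensionLT_pi {R : Type u} [CommRing R] {M : ModuleCat.{u} R} {m : ℕ}
    (h : HasProjectiveDimensionLT M (m + 1)) : ∀ r : ℕ,
    HasProjectiveDimensionLT (ModuleCat.of R (Fin r → M)) (m + 1)
  | 0 => by
    haveI := (ModuleCat.isZero_of_subsingleton (ModuleCat.of R (Fin 0 → M))).hasProjectiveDimensionLT_zero
    exact hasProjectiveDimensionLT_of_ge _ 0 _ (Nat.zero_le _)
  | r + 1 => by
    haveI := h
    haveI := hasProjectiveDimensionLT_pi h r
    haveI : HasProjectiveDimensionLT (M ⊞ ModuleCat.of R (Fin r → M)) (m + 1) := inferInstance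
    exact hasProjectiveDimensionLT_of_iso ((ModuleCat.biprodIsoProd M (ModuleCat.of R (Fin r → M))) ≪≫
      (Fin.consLinearEquiv R (fun _ : Fin (r + 1) => (M : Type u))).toModuleIso) (m + 1)

/-- A free module over a quotient by a regular sequence has finite projective dimension. -/
theorem hasProjectiveDimensionLT_restrictScalars {R S : Type u} [CommRing R] [CommRing S] [IsNoetherianRing R]
    [IsLocalRing R] (g : R →+* S) (hg : Function.Surjective g) {rs : List R}
    (hrs : RingTheory.Sequence.IsRegular R rs) (hker : RingHom.ker g = Ideal.ofList rs)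
    (N : ModuleCat.{u} S) [Module.Free S N] [Module.Finite S N] :
    HasProjectiveDimensionLT ((ModuleCat.restrictScalars g).obj N) (rs.length + 1) := by
  rcases subsingleton_or_nontrivial S with hS | hS
  · haveI : Subsingleton N := Module.subsingleton S N
    haveI : Subsingleton ((ModuleCat.restrictScalars g).obj N) := ‹Subsingleton N›
    haveI := (ModuleCat.isZero_of_subsingleton ((ModuleCat.restrictScalars g).obj N)).hasProjectiveDimensionLT_zero
    exact hasProjectiveDimensionLT_of_ge _ 0 _ (Nat.zero_le _)
  let b := Module.finBasis S N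
  let A := ModuleCat.of R (R ⧸ Ideal.ofList rs)
  let σ : (R ⧸ Ideal.ofList rs) ≃+* S :=
    (Ideal.quotEquivOfEq hker.symm).trans (RingHom.quotientKerEquivOfSurjective hg)
  haveI := hasProjectiveDimensionLT_pi (hasProjectiveDimensionLT_of_regular hrs) (Module.finrank S N)
  let e : ModuleCat.of R (Fin (Module.finrank S N) → A) ≅ (ModuleCat.restrictScalars g).obj N :=
    LinearEquiv.toModuleIso (X₁ := Fin (Module.finrank S N) → A) (X₂ := ((ModuleCat.restrictScalars g).obj N : Type u))
      { ((AddEquiv.piCongrRight fun _ => σ.toAddEquiv).trans b.equivFun.symm.toAddEquiv) with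
        map_smul' := fun c v => by
          change b.equivFun.symm (fun i => σ (c • v i)) = g c • b.equivFun.symm (fun i => σ (v i))
          rw [← map_smul]
          congr 1
          funext i
          show σ (c • v i) = g c * σ (v i)
          rw [show c • v i = Ideal.Quotient.mk (Ideal.ofList rs) c * v i from Algebra.smul_def c (v i), map_mul]
          rfl }
  exact hasProjectiveDimensionLT_of_iso e _

variable {X Y : Scheme.{u}} (f : X ⟶ Y)

theorem exists_regular_stalk [IsLocallyNoetherian Y] (hf : Mor2.IsRegularClosedImmersion f) (z : X) :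
    ∃ rs : List (Y.presheaf.stalk (f z)), RingTheory.Sequence.IsRegular (Y.presheaf.stalk (f z)) rs ∧
      RingHom.ker (f.stalkMap z).hom = Ideal.ofList rs := by
  haveI := hf.1
  obtain ⟨U, hU, hz, rs, hrs, hker⟩ := hf.2 z
  letI := Y.presheaf.algebra_section_stalk ⟨f z, hz⟩
  haveI := hU.isLocalization_stalk ⟨f z, hz⟩
  have hk : RingHom.ker (f.stalkMap z).hom =
      (Ideal.ofList rs).map (algebraMap Γ(Y, U) (Y.presheaf.stalk (f z))) := by
    rw [Groth.L20.Infinitesimal.ker_stalkMap, Groth.L20.SeeNormal.sI_eq f.ker ⟨U, hU⟩ hz, hker]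
    rfl
  have hk' : RingHom.ker (f.stalkMap z).hom =
      Ideal.ofList (rs.map (algebraMap Γ(Y, U) (Y.presheaf.stalk (f z)))) := by
    rw [hk, Ideal.map_ofList]
  refine ⟨_, hrs.1.isRegular_of_isLocalization_of_mem (Y.presheaf.stalk (f z))
    (hU.primeIdealOf ⟨f z, hz⟩).asIdeal (fun r hr => ?_), hk'⟩
  rw [← IsLocalization.AtPrime.to_map_mem_maximal_iff (Y.presheaf.stalk (f z)) (hU.primeIdealOf ⟨f z, hz⟩).asIdeal]
  refine IsLocalRing.le_maximalIdeal (RingHom.ker_ne_top (f.stalkMap z).hom) ?_
  rw [hk]
  exact Ideal.mem_map_of_mem _ (Ideal.subset_span hr)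

theorem cohPd_push [IsNoetherian Y] [IsNoetherian X] (hf : Mor2.IsRegularClosedImmersion f)
    (hYe : KRR.HasEnoughLocFree Y) {F : X.Modules} (hF : FlatMod.IsFinLocFree F) :
    CohPd ((Scheme.Modules.pushforward f).obj F) := by
  haveI := hf.1
  refine cohPd_of_pointwise hYe (Groth.L16.CohClosedPush.isCoh_push f (Groth.L16.NegPow.isCoh_of_isFinLocFree hF)) fun y => ?_
  by_cases hy : y ∈ Set.range f
  · obtain ⟨z, rfl⟩ := hy
    obtain ⟨rs, hrs, hker⟩ := exists_regular_stalk f hf z
    haveI : Module.Free (X.presheaf.stalk z) ((Groth.L00.Stk.F X z).obj F) := Groth.L18.LFP.free_stalk F hF z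
    haveI : Module.Finite (X.presheaf.stalk z) ((Groth.L00.Stk.F X z).obj F) :=
      Groth.L18.LFP.finite_stalk F (Groth.L15.Ref.isFP_of_isCoh (Groth.L16.NegPow.isCoh_of_isFinLocFree hF)) z
    haveI := hasProjectiveDimensionLT_restrictScalars (Groth.L00.PullStalk.φ f z) (f.stalkMap_surjective z)
      hrs hker ((Groth.L00.Stk.F X z).obj F)
    exact ⟨rs.length, hasProjectiveDimensionLT_of_iso (Groth.L17.ClosedPush.cIso f F z).symm _⟩
  · haveI : Subsingleton ((Groth.L00.Stk.F Y y).obj ((Scheme.Modules.pushforward f).obj F)) :=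
      Groth.L17.ClosedPush.subsingleton_stalk_push f F hy
    haveI := (ModuleCat.isZero_of_subsingleton
      ((Groth.L00.Stk.F Y y).obj ((Scheme.Modules.pushforward f).obj F))).hasProjectiveDimensionLT_zero
    exact ⟨0, hasProjectiveDimensionLT_of_ge _ 0 1 (Nat.zero_le _)⟩

end Groth.L12.KRes
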