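import Groth.Agent.L12.KRes.KPushCl
import Groth.Agent.L16.FrameIso
import Groth.Agent.L29.DCoh.TensorPerfect

/-!
# Tensor products with bundles on `K₀` of coherent modules of bounded projective dimension
-/

set_option autoImplicit false
set_option linter.style.haveILetI false
set_option backward.isDefEq.respectTransparency false
set_option backward.isDefEq.respectTransparency.types false

universe v u

open CategoryTheory CategoryTheory.Limits AlgebraicGeometry

noncomputable section

namespace Groth.L12.KRes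

variable {X : Scheme.{u}} [IsNoetherian X]

theorem isFlat_vb {E : X.Modules} (hE : FlatMod.IsFinLocFree E) : FlatMod.IsFlat E :=
  Groth.L29.DC.isFlat_of_isFinLocFree hE

theorem cohPd_tensor (hX : KRR.HasEnoughLocFree X) {E : X.Modules} (hE : FlatMod.IsFinLocFree E) :
    ∀ (n : ℕ) {M : X.Modules}, Coh.IsCoh M → PdLE n M →
      Coh.IsCoh (CohB1.tensorMod E M) ∧ PdLE n (CohB1.tensorMod E M)
  | 0, M, hc, hp => vb_iff.1 (Groth.L29.DC.isFinLocFree_tensor hE (vb_iff.2 ⟨hc, hp⟩))
  | n + 1, M, hc, hp => by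
    obtain ⟨L, p, hL, hep⟩ := hX M hc
    haveI := hep
    have hS : (ShortComplex.mk (kernel.ι p) p (kernel.condition p)).ShortExact :=
      ShortComplex.ShortExact.mk' (ShortComplex.exact_of_f_is_kernel _ (kernelIsKernel p)) inferInstance inferInstance
    have hK := cohPd_tensor hX hE n (isCoh_left hS (vb_iff.1 hL).1 hc)
      (((vb_iff.1 hL).2.mono (Nat.zero_le n)).left hS hp)
    have hT := Groth.L16.FrameIso.shortExact_tensor_left (isFlat_vb hE) _ hS
    have hL' := vb_iff.1 (Groth.L29.DC.isFinLocFree_tensor hE hL)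
    refine ⟨?_, hK.2.right hT (hL'.2.mono (Nat.zero_le _))⟩
    exact Groth.L16.CohSupport.isCoh_of_iso
      ((cokernelIsCokernel _).coconePointUniqueUpToIso hT.gIsCokernel)
      (Groth.L16.CohKernel.isCoh_kernel_cokernel hK.1 hL'.1 _).2

theorem cohPd_tensor' (hX : KRR.HasEnoughLocFree X) {E : X.Modules} (hE : FlatMod.IsFinLocFree E) {M : X.Modules}
    (hM : CohPd M) : CohPd (CohB1.tensorMod E M) :=
  ⟨(cohPd_tensor hX hE _ hM.1 hM.2.choose_spec).1, _, (cohPd_tensor hX hE _ hM.1 hM.2.choose_spec).2⟩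

variable (hX : KRR.HasEnoughLocFree X) {K : Type v} [CommRing K] [LambdaRing.LambdaOps K]
  {P : LambdaRing.PosStructure K} {φ : SGA6.Kvb X →+ K} (hK : KRR.IsModel X K P φ)

include hX hK in
/-- Classes are multiplicative for a bundle times a coherent module of bounded projective dimension. -/
theorem cl_tensor {E : X.Modules} (hE : FlatMod.IsFinLocFree E) {M : X.Modules} (hM : CohPd M) :
    φ (clPd hX (CohB1.tensorMod E M)) = φ (KRR.cl X E) * φ (clPd hX M) := by
  let A : KZero.K0sub (fun M : X.Modules => CohPd M) →+ K :=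
    Groth.L29.KSub.lift (fun M => φ (clPd hX (CohB1.tensorMod E M))) fun S hS h₁ h₂ h₃ => by
      rw [← map_add]
      exact congrArg φ (clPd_shortExact hX (Groth.L16.FrameIso.shortExact_tensor_left (isFlat_vb hE) _ hS)
        (cohPd_tensor' hX hE h₁) (cohPd_tensor' hX hE h₂) (cohPd_tensor' hX hE h₃))
  let B : KZero.K0sub (fun M : X.Modules => CohPd M) →+ K :=
    (AddMonoidHom.mulLeft (φ (KRR.cl X E))).comp
      (φ.comp (AddEquiv.ofBijective (toPd hX) (bijective_toPd hX)).symm.toAddMonoidHom)
  have hAB : A.comp (toPd hX) = B.comp (toPd hX) := Groth.L29.KSub.hom_ext fun F hF => by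
    show A (toPd hX (KRR.cl X F)) = φ (KRR.cl X E) *
      φ ((AddEquiv.ofBijective (toPd hX) (bijective_toPd hX)).symm (toPd hX (KRR.cl X F)))
    rw [show (AddEquiv.ofBijective (toPd hX) (bijective_toPd hX)).symm (toPd hX (KRR.cl X F)) = KRR.cl X F from
      (AddEquiv.ofBijective (toPd hX) (bijective_toPd hX)).symm_apply_apply _, toPd_cl hX hF]
    refine (Groth.L29.KSub.lift_clSub _ _ ((hyp hX).le F hF)).trans ?_
    rw [clPd_vb hX (Groth.L29.DC.isFinLocFree_tensor hE hF), hK.map_mul E F hE hF]
    rfl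
  obtain ⟨a, ha⟩ := (bijective_toPd hX).2 (KZero.clSub (fun M : X.Modules => CohPd M) M)
  have h := DFunLike.congr_fun hAB a
  rw [AddMonoidHom.comp_apply, AddMonoidHom.comp_apply, ha] at h
  rw [show A (KZero.clSub (fun M : X.Modules => CohPd M) M) = φ (clPd hX (CohB1.tensorMod E M)) from
    Groth.L29.KSub.lift_clSub _ _ hM] at h
  exact h

end Groth.L12.KRes
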